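/-
Elements of a symplectic group around a hyperbolic pair, and generation.
-/
import Cfsg.Agent.Lib.Classical.WeilSp.Bound
import Cfsg.Agent.Lib.Sp.Basic
import Cfsg.Agent.Lib.Perm.Trans.SympGen

set_option autoImplicit false

namespace CfsgLib.Char.SpWeil

open Matrix CfsgLib.Sp

variable {F : Type*} [Field F] {n : ℕ}

local notation "G[" n "]" => Matrix.symplecticGroup (Fin n) F

theorem sf_elim (a b c d : Fin n → F) :
    sf (Sum.elim a b) (Sum.elim c d) = b ⬝ᵥ c - a ⬝ᵥ d := by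
  rw [sf_eq]; simp [dotProduct, Finset.sum_sub_distrib]

theorem sp_ext_elim {A B : G[n]} (h : ∀ a b, A.1 *ᵥ Sum.elim a b = B.1 *ᵥ Sum.elim a b) : A = B :=
  sp_ext_vec fun u => by rw [← Sum.elim_comp_inl_inr u]; exact h _ _

theorem mem_sp_elim {A : Matrix (Fin n ⊕ Fin n) (Fin n ⊕ Fin n) F}
    (h : ∀ a b c d, sf (A *ᵥ Sum.elim a b) (A *ᵥ Sum.elim c d) = b ⬝ᵥ c - a ⬝ᵥ d) :
    A ∈ G[n] :=
  mem_sp_iff.2 fun u v => by
    rw [← Sum.elim_comp_inl_inr u, ← Sum.elim_comp_inl_inr v, h, sf_elim]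

theorem fromBlocks_elim (A B C D : Matrix (Fin n) (Fin n) F) (a b : Fin n → F) :
    fromBlocks A B C D *ᵥ Sum.elim a b = Sum.elim (A *ᵥ a + B *ᵥ b) (C *ᵥ a + D *ᵥ b) := by
  rw [fromBlocks_mulVec, Sum.elim_comp_inl, Sum.elim_comp_inr]

/-- A lower unipotent element. -/
def low (S : Matrix (Fin n) (Fin n) F) (hS : Sᵀ = S) : G[n] :=
  ⟨fromBlocks 1 0 S 1, mem_sp_elim fun a b c d => by
    simp only [fromBlocks_elim, one_mulVec, zero_mulVec, add_zero, sf_elim, add_dotProduct, dotProduct_add]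
    rw [dotProduct_mulVec a, ← mulVec_transpose, hS]
    ring⟩

theorem low_mulVec (S : Matrix (Fin n) (Fin n) F) (hS : Sᵀ = S) (a b : Fin n → F) :
    (low S hS).1 *ᵥ Sum.elim a b = Sum.elim a (S *ᵥ a + b) := by
  simp [low, fromBlocks_elim]

theorem low_mul (S T : Matrix (Fin n) (Fin n) F) (hS : Sᵀ = S) (hT : Tᵀ = T) :
    low S hS * low T hT = low (S + T) (by rw [transpose_add, hS, hT]) := by
  refine sp_ext_elim fun a b => ?_
  rw [sp_mul_mulVec, low_mulVec, low_mulVec, low_mulVec, add_mulVec, add_assoc]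

theorem low_congr {S T : Matrix (Fin n) (Fin n) F} (h : S = T) (hS : Sᵀ = S) (hT : Tᵀ = T) :
    low S hS = low T hT := by subst h; rfl

theorem low_zero : low (0 : Matrix (Fin n) (Fin n) F) transpose_zero = 1 :=
  sp_ext_elim fun a b => by rw [low_mulVec, sp_one_mulVec, zero_mulVec, zero_add]

theorem levi_mulVec (g : Matrix (Fin n) (Fin n) F) (hg : g.det ≠ 0) (a b : Fin n → F) :
    (CfsgLib.Classical.WeilSp.levi g hg).1 *ᵥ Sum.elim a b = Sum.elim (g *ᵥ a) ((g⁻¹)ᵀ *ᵥ b) := by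
  simp [CfsgLib.Classical.WeilSp.levi, fromBlocks_elim]

/-- Conjugation of lower unipotent elements by Levi elements. -/
theorem levi_low (g : Matrix (Fin n) (Fin n) F) (hg : g.det ≠ 0) (S : Matrix (Fin n) (Fin n) F) (hS : Sᵀ = S)
    (hS' : (gᵀ * S * g)ᵀ = gᵀ * S * g) :
    low S hS * CfsgLib.Classical.WeilSp.levi g hg = CfsgLib.Classical.WeilSp.levi g hg * low (gᵀ * S * g) hS' := by
  have hu : IsUnit gᵀ.det := by rw [det_transpose]; exact isUnit_iff_ne_zero.2 hg
  refine sp_ext_elim fun a b => ?_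
  rw [sp_mul_mulVec, sp_mul_mulVec, levi_mulVec, low_mulVec, low_mulVec, levi_mulVec, mulVec_add, mulVec_mulVec,
    mulVec_mulVec, Matrix.transpose_nonsing_inv, Matrix.mul_assoc, Matrix.nonsing_inv_mul_cancel_left gᵀ _ hu]

/-- The two dimensional symplectic group on the `j`-th hyperbolic pair, as a matrix. -/
def iMat (j : Fin n) (M : Matrix (Fin 2) (Fin 2) F) : Matrix (Fin n ⊕ Fin n) (Fin n ⊕ Fin n) F :=
  fromBlocks (1 + (M 0 0 - 1) • single j j 1) (M 0 1 • single j j 1) (M 1 0 • single j j 1)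
    (1 + (M 1 1 - 1) • single j j 1)

theorem iMat_mulVec (j : Fin n) (M : Matrix (Fin 2) (Fin 2) F) (a b : Fin n → F) :
    iMat j M *ᵥ Sum.elim a b = Sum.elim (a + Pi.single j ((M 0 0 - 1) * a j + M 0 1 * b j))
      (b + Pi.single j (M 1 0 * a j + (M 1 1 - 1) * b j)) := by
  rw [iMat, fromBlocks_elim]
  congr 1 <;>
  · funext i
    simp [add_mulVec, smul_mulVec, single_mulVec, Pi.single_apply, Function.update_apply]
    split <;> ring

/-- The embedding of `SL₂` on the `j`-th hyperbolic pair. -/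
def iSL (j : Fin n) : Matrix.SpecialLinearGroup (Fin 2) F →* G[n] where
  toFun M := ⟨iMat j M.1, mem_sp_elim fun a b c d => by
    have hd : M.1 0 0 * M.1 1 1 - M.1 0 1 * M.1 1 0 = 1 := by rw [← det_fin_two]; exact M.2
    simp only [iMat_mulVec, sf_elim, add_dotProduct, dotProduct_add, single_dotProduct, dotProduct_single,
      Pi.add_apply, Pi.single_eq_same]
    linear_combination (b j * c j - a j * d j) * hd⟩
  map_one' := sp_ext_elim fun a b => by
    show iMat j (1 : Matrix (Fin 2) (Fin 2) F) *ᵥ _ = _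
    rw [iMat_mulVec, sp_one_mulVec]
    simp
  map_mul' M N := sp_ext_elim fun a b => by
    show iMat j (M.1 * N.1) *ᵥ _ = _
    rw [sp_mul_mulVec]
    show _ = iMat j M.1 *ᵥ (iMat j N.1 *ᵥ _)
    rw [iMat_mulVec, iMat_mulVec, iMat_mulVec]
    congr 1 <;>
    · rw [add_assoc, ← Pi.single_add]
      congr 2
      simp [Matrix.mul_apply, Fin.sum_univ_two]
      ring

theorem iSL_mulVec (j : Fin n) (M : Matrix.SpecialLinearGroup (Fin 2) F) (a b : Fin n → F) :
    (iSL j M).1 *ᵥ Sum.elim a b = Sum.elim (a + Pi.single j ((M.1 0 0 - 1) * a j + M.1 0 1 * b j))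
      (b + Pi.single j (M.1 1 0 * a j + (M.1 1 1 - 1) * b j)) :=
  iMat_mulVec j M.1 a b

/-- The lower unipotent elements of `SL₂`. -/
def lo (t : F) : Matrix.SpecialLinearGroup (Fin 2) F := ⟨!![1, 0; t, 1], by simp [det_fin_two_of]⟩

/-- The upper unipotent elements of `SL₂`. -/
def hi (t : F) : Matrix.SpecialLinearGroup (Fin 2) F := ⟨!![1, t; 0, 1], by simp [det_fin_two_of]⟩

/-- The diagonal elements of `SL₂`. -/
def dia (t : F) (ht : t ≠ 0) : Matrix.SpecialLinearGroup (Fin 2) F :=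
  ⟨!![t, 0; 0, t⁻¹], by simp [det_fin_two_of, mul_inv_cancel₀ ht]⟩

/-- The rotation. -/
def rot : Matrix.SpecialLinearGroup (Fin 2) F := ⟨!![0, 1; -1, 0], by simp [det_fin_two_of]⟩

theorem hi_eq (t : F) : hi t = rot * lo (-t) * rot⁻¹ := by
  rw [eq_mul_inv_iff_mul_eq]
  apply Subtype.ext
  rw [Matrix.SpecialLinearGroup.coe_mul, Matrix.SpecialLinearGroup.coe_mul]
  ext i j
  fin_cases i <;> fin_cases j <;> simp [hi, rot, lo]

theorem sl2_eq_top {H : Subgroup (Matrix.SpecialLinearGroup (Fin 2) F)} (hl : ∀ t, lo t ∈ H)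
    (hh : ∀ t, hi t ∈ H) : H = ⊤ := by
  refine eq_top_iff.2 fun M _ => Matrix.SL2.transvection_induction (· ∈ H) (fun i j hij c => ?_)
    (fun _ _ => H.mul_mem) M
  fin_cases i <;> fin_cases j
  · exact absurd rfl hij
  · convert hh c
    ext i j
    fin_cases i <;> fin_cases j <;> simp [hi, Matrix.SpecialLinearGroup.transvection_coe]
  · convert hl c
    ext i j
    fin_cases i <;> fin_cases j <;> simp [lo, Matrix.SpecialLinearGroup.transvection_coe]
  · exact absurd rfl hij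

theorem iSL_lo (j : Fin n) (t : F) : iSL j (lo t) = low (t • single j j 1) (by simp) := by
  refine sp_ext_elim fun a b => ?_
  rw [iSL_mulVec, low_mulVec]
  congr 1
  · simp [lo]
  · funext i
    simp [lo, smul_mulVec, single_mulVec, Pi.single_apply, Function.update_apply]
    split <;> ring

variable {m : ℕ}

/-- Shears in the Levi subgroup. -/
def lsh (y : Fin m → F) : G[m + 1] :=
  ⟨fromBlocks (1 + vecMulVec (Fin.cons 0 y) (Pi.single 0 1)) 0 0 (1 - vecMulVec (Pi.single 0 1) (Fin.cons 0 y)),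
    mem_sp_elim fun a b c d => by
      simp only [fromBlocks_elim, add_mulVec, sub_mulVec, one_mulVec, zero_mulVec, add_zero, zero_add,
        vecMulVec_mulVec, op_smul_eq_smul, sf_elim, add_dotProduct, dotProduct_add, sub_dotProduct, dotProduct_sub,
        smul_dotProduct, dotProduct_smul, single_dotProduct, dotProduct_single, Fin.cons_zero, one_mul, mul_one,
        Pi.add_apply, Pi.sub_apply, Pi.smul_apply, smul_eq_mul]
      rw [dotProduct_comm (Fin.cons 0 y) d, dotProduct_comm (Fin.cons 0 y) b]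
      ring⟩

theorem lsh_mulVec (y : Fin m → F) (a b : Fin (m + 1) → F) :
    (lsh y).1 *ᵥ Sum.elim a b = Sum.elim (a + a 0 • Fin.cons 0 y)
      (b - Pi.single 0 ((Fin.cons 0 y : Fin (m + 1) → F) ⬝ᵥ b)) := by
  simp only [lsh, fromBlocks_elim, add_mulVec, sub_mulVec, one_mulVec, zero_mulVec, add_zero, zero_add,
    vecMulVec_mulVec, op_smul_eq_smul, single_dotProduct, one_mul, ← Pi.single_smul, smul_eq_mul, mul_one]

theorem cons_dot (y : Fin m → F) (b : Fin (m + 1) → F) :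
    (Fin.cons 0 y : Fin (m + 1) → F) ⬝ᵥ b = y ⬝ᵥ fun i => b i.succ := by
  simp [dotProduct, Fin.sum_univ_succ]

/-- The symmetric matrices of the first row. -/
def sR (s : Fin m → F) : Matrix (Fin (m + 1)) (Fin (m + 1)) F :=
  vecMulVec (Pi.single 0 1) (Fin.cons 0 s) + vecMulVec (Fin.cons 0 s) (Pi.single 0 1)

theorem sR_transpose (s : Fin m → F) : (sR s)ᵀ = sR s := by
  rw [sR, transpose_add, transpose_vecMulVec, transpose_vecMulVec]
  exact add_comm _ _

/-- Unipotent elements of the first row. -/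
def hQ (s : Fin m → F) : G[m + 1] := low (sR s) (sR_transpose s)

theorem hQ_mulVec (s : Fin m → F) (a b : Fin (m + 1) → F) :
    (hQ s).1 *ᵥ Sum.elim a b = Sum.elim a
      (Pi.single 0 ((Fin.cons 0 s : Fin (m + 1) → F) ⬝ᵥ a) + a 0 • Fin.cons 0 s + b) := by
  rw [hQ, low_mulVec, sR, add_mulVec, vecMulVec_mulVec, vecMulVec_mulVec, op_smul_eq_smul, op_smul_eq_smul,
    single_dotProduct, one_mul, ← Pi.single_smul, smul_eq_mul, mul_one]

/-- The rotation of the pairs other than the first. -/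
def jP : G[m + 1] :=
  ⟨fromBlocks (single 0 0 1) (1 - single 0 0 1) (single 0 0 1 - 1) (single 0 0 1), mem_sp_elim fun a b c d => by
    simp only [fromBlocks_elim, sub_mulVec, one_mulVec, sf_elim, single_mulVec, dotProduct, Fin.sum_univ_succ]
    simp [Function.update_apply, Fin.succ_ne_zero]
    ring⟩

theorem jP_mulVec (a b : Fin (m + 1) → F) :
    (jP (F := F) (m := m)).1 *ᵥ Sum.elim a b =
      Sum.elim (Fin.cons (a 0) fun i => b i.succ) (Fin.cons (b 0) fun i => -a i.succ) := by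
  simp only [jP, fromBlocks_elim, sub_mulVec, one_mulVec, single_mulVec]
  congr 1 <;>
  · funext i
    refine Fin.cases ?_ (fun i => ?_) i <;> simp [Function.update_apply, Fin.succ_ne_zero]

theorem jP_lsh (y : Fin m → F) : jP * lsh y = hQ (-y) * jP (F := F) (m := m) := by
  refine sp_ext_elim fun a b => ?_
  rw [sp_mul_mulVec, sp_mul_mulVec, lsh_mulVec, jP_mulVec, jP_mulVec, hQ_mulVec]
  congr 1 <;> funext i <;> refine Fin.cases ?_ (fun i => ?_) i <;>
    simp [dotProduct, Fin.sum_univ_succ, Fin.succ_ne_zero] <;> ring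

theorem jP_hQ (s : Fin m → F) : jP * hQ s = lsh s * jP (F := F) (m := m) := by
  refine sp_ext_elim fun a b => ?_
  rw [sp_mul_mulVec, sp_mul_mulVec, hQ_mulVec, jP_mulVec, jP_mulVec, lsh_mulVec]
  congr 1 <;> funext i <;> refine Fin.cases ?_ (fun i => ?_) i <;>
    simp [dotProduct, Fin.sum_univ_succ, Fin.succ_ne_zero] <;> ring

theorem jP_lo (j : Fin m) (t : F) : jP * iSL j.succ (lo t) = iSL j.succ (hi (-t)) * jP (F := F) (m := m) := by
  refine sp_ext_elim fun a b => ?_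
  rw [sp_mul_mulVec, sp_mul_mulVec, iSL_mulVec, jP_mulVec, jP_mulVec, iSL_mulVec]
  congr 1 <;> funext i <;> refine Fin.cases ?_ (fun i => ?_) i <;>
    simp [lo, hi, Pi.single_apply, Fin.succ_ne_zero, (Fin.succ_ne_zero _).symm, Fin.succ_inj] <;>
    (try split) <;> ring

theorem jP_iSL_zero (t : F) : jP * iSL 0 (lo t) = iSL 0 (lo t) * jP (F := F) (m := m) := by
  refine sp_ext_elim fun a b => ?_
  rw [sp_mul_mulVec, sp_mul_mulVec, iSL_mulVec, jP_mulVec, jP_mulVec, iSL_mulVec]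
  congr 1 <;> funext i <;> refine Fin.cases ?_ (fun i => ?_) i <;>
    simp [lo, Pi.single_apply, Fin.succ_ne_zero]

theorem dia_lsh (t : F) (ht : t ≠ 0) (y : Fin m → F) :
    iSL 0 (dia t ht) * lsh y = lsh (t⁻¹ • y) * iSL 0 (dia t ht) := by
  refine sp_ext_elim fun a b => ?_
  rw [sp_mul_mulVec, sp_mul_mulVec, iSL_mulVec, lsh_mulVec, iSL_mulVec, lsh_mulVec]
  congr 1 <;> funext i <;> refine Fin.cases ?_ (fun i => ?_) i <;>
    simp [dia, cons_dot, smul_dotProduct, Fin.succ_ne_zero, Pi.single_apply] <;>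
    field_simp <;> ring

theorem dia_hQ (t : F) (ht : t ≠ 0) (s : Fin m → F) :
    iSL 0 (dia t ht) * hQ s = hQ (t⁻¹ • s) * iSL 0 (dia t ht) := by
  refine sp_ext_elim fun a b => ?_
  rw [sp_mul_mulVec, sp_mul_mulVec, iSL_mulVec, hQ_mulVec, iSL_mulVec, hQ_mulVec]
  congr 1 <;> funext i <;> refine Fin.cases ?_ (fun i => ?_) i <;>
    simp [dia, cons_dot, smul_dotProduct, Fin.succ_ne_zero, Pi.single_apply] <;>
    field_simp <;> ring

theorem dia_lo (t : F) (ht : t ≠ 0) (s : F) : dia t ht * lo s = lo (s / (t * t)) * dia t ht := by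
  apply Subtype.ext
  rw [Matrix.SpecialLinearGroup.coe_mul, Matrix.SpecialLinearGroup.coe_mul]
  ext i j
  fin_cases i <;> fin_cases j <;> simp [dia, lo]
  field_simp

/-- The permutations of the pairs. -/
def permEl (π : Equiv.Perm (Fin n)) : G[n] :=
  ⟨fromBlocks (π.permMatrix F) 0 0 (π.permMatrix F), mem_sp_elim fun a b c d => by
    simp only [fromBlocks_elim, zero_mulVec, add_zero, zero_add, permMatrix_mulVec, sf_elim, dotProduct,
      Function.comp_apply]
    rw [Equiv.sum_comp π fun i => b i * c i, Equiv.sum_comp π fun i => a i * d i]⟩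

theorem permEl_mulVec (π : Equiv.Perm (Fin n)) (a b : Fin n → F) :
    (permEl π).1 *ᵥ Sum.elim a b = Sum.elim (a ∘ π) (b ∘ π) := by
  simp [permEl, fromBlocks_elim, permMatrix_mulVec]

theorem permEl_iSL (π : Equiv.Perm (Fin n)) (j : Fin n) (M : Matrix.SpecialLinearGroup (Fin 2) F) :
    permEl π * iSL (π j) M = iSL j M * permEl π := by
  refine sp_ext_elim fun a b => ?_
  rw [sp_mul_mulVec, sp_mul_mulVec, iSL_mulVec, permEl_mulVec, permEl_mulVec, iSL_mulVec]
  congr 1 <;> funext i <;> simp [Pi.single_apply, π.injective.eq_iff]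

/-- Sign changes of pairs. -/
def negOn (s : Finset (Fin n)) : G[n] :=
  ⟨fromBlocks (diagonal fun i => if i ∈ s then -1 else 1) 0 0 (diagonal fun i => if i ∈ s then -1 else 1),
    mem_sp_elim fun a b c d => by
      simp only [fromBlocks_elim, zero_mulVec, add_zero, zero_add, sf_elim, dotProduct, mulVec_diagonal]
      congr 1 <;>
      · refine Finset.sum_congr rfl fun i _ => ?_
        split <;> ring⟩

theorem negOn_mulVec (s : Finset (Fin n)) (a b : Fin n → F) :
    (negOn (F := F) s).1 *ᵥ Sum.elim a b =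
      Sum.elim (fun i => (if i ∈ s then -1 else 1) * a i) (fun i => (if i ∈ s then -1 else 1) * b i) := by
  simp only [negOn, fromBlocks_elim, zero_mulVec, add_zero, zero_add]
  congr 1 <;> funext i <;> rw [mulVec_diagonal]

theorem negOn_empty : negOn (F := F) (∅ : Finset (Fin n)) = 1 :=
  sp_ext_elim fun a b => by
    rw [negOn_mulVec, sp_one_mulVec]
    simp

theorem negOn_insert (s : Finset (Fin n)) {j : Fin n} (hj : j ∉ s) :
    negOn (F := F) (insert j s) = iSL j (-1) * negOn s := by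
  refine sp_ext_elim fun a b => ?_
  rw [sp_mul_mulVec, negOn_mulVec, negOn_mulVec, iSL_mulVec]
  congr 1 <;>
  · funext i
    by_cases h : i = j
    · subst h; simp [hj]; ring
    · simp [h]

theorem negOn_univ_mem_center : negOn (F := F) (Finset.univ : Finset (Fin n)) ∈ Subgroup.center (G[n]) := by
  refine Subgroup.mem_center_iff.2 fun g => sp_ext_vec fun u => ?_
  have h : ∀ v : Fin n ⊕ Fin n → F, (negOn (F := F) (Finset.univ : Finset (Fin n))).1 *ᵥ v = -v := fun v => by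
    rw [← Sum.elim_comp_inl_inr v, negOn_mulVec]
    funext i
    rcases i with i | i <;> simp
  rw [sp_mul_mulVec, sp_mul_mulVec, h, h, mulVec_neg]

/-- Generation. -/
theorem eq_top_of_gens (H : Subgroup (G[m + 1])) (hA : ∀ M, iSL 0 M ∈ H) (hL : ∀ y, lsh y ∈ H)
    (hQ' : ∀ s, hQ s ∈ H) : H = ⊤ := by
  classical
  set e : Fin (m + 1) ⊕ Fin (m + 1) → F := Sum.elim 0 (Pi.single 0 1) with he
  -- the orbit of `e`
  have stepA : ∀ a b : Fin (m + 1) → F, (∀ i : Fin m, a i.succ = 0 ∧ b i.succ = 0) → (a 0 ≠ 0 ∨ b 0 ≠ 0) →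
      ∃ k ∈ H, k.1 *ᵥ e = Sum.elim a b := by
    intro a b hab h0
    obtain ⟨M, h01, h11⟩ : ∃ M : Matrix.SpecialLinearGroup (Fin 2) F, M.1 0 1 = a 0 ∧ M.1 1 1 = b 0 := by
      by_cases ha : a 0 = 0
      · have hb : b 0 ≠ 0 := h0.resolve_left fun h => h ha
        exact ⟨⟨!![(b 0)⁻¹, a 0; 0, b 0], by simp [det_fin_two_of, ha, inv_mul_cancel₀ hb]⟩, rfl, rfl⟩
      · exact ⟨⟨!![0, a 0; -(a 0)⁻¹, b 0], by simp [det_fin_two_of, mul_inv_cancel₀ ha]⟩, rfl, rfl⟩
    refine ⟨iSL 0 M, hA M, ?_⟩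
    rw [he, iSL_mulVec]
    congr 1 <;> funext i <;> refine Fin.cases ?_ (fun i => ?_) i <;>
      simp [h01, h11, hab, Fin.succ_ne_zero, Pi.single_apply]
  have step1 : ∀ a b : Fin (m + 1) → F, a 0 ≠ 0 → ∃ k ∈ H, k.1 *ᵥ e = Sum.elim a b := by
    intro a b ha
    set y : Fin m → F := fun i => a i.succ / a 0
    set s : Fin m → F := fun i => b i.succ / a 0
    obtain ⟨k, hk, hke⟩ := stepA (Pi.single 0 (a 0)) (Pi.single 0 (b 0 + y ⬝ᵥ (fun i => b i.succ)))
      (fun i => by simp [Fin.succ_ne_zero]) (Or.inl (by simpa using ha))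
    refine ⟨lsh y * hQ s * k, mul_mem (mul_mem (hL y) (hQ' s)) hk, ?_⟩
    rw [sp_mul_mulVec, hke, sp_mul_mulVec, hQ_mulVec, lsh_mulVec]
    congr 1 <;> funext i <;> refine Fin.cases ?_ (fun i => ?_) i <;>
      simp [y, s, dotProduct, Fin.sum_univ_succ, Fin.succ_ne_zero, div_mul_cancel₀ _ ha, mul_div_cancel₀ _ ha]
  have step2 : ∀ a b : Fin (m + 1) → F, a 0 ≠ 0 ∨ b 0 ≠ 0 → ∃ k ∈ H, k.1 *ᵥ e = Sum.elim a b := by
    intro a b h0
    rcases eq_or_ne (a 0) 0 with ha | ha
    · have hb : b 0 ≠ 0 := h0.resolve_left fun h => h ha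
      obtain ⟨k, hk, hke⟩ := step1 (a + Pi.single 0 (b 0)) b (by simp [ha, hb])
      refine ⟨iSL 0 (hi (-1)) * k, mul_mem (hA _) hk, ?_⟩
      rw [sp_mul_mulVec, hke, iSL_mulVec]
      congr 1 <;> funext i <;> refine Fin.cases ?_ (fun i => ?_) i <;>
        simp [hi, Fin.succ_ne_zero, ha]
    · exact step1 a b ha
  have step3 : ∀ a b : Fin (m + 1) → F, Sum.elim a b ≠ 0 → ∃ k ∈ H, k.1 *ᵥ e = Sum.elim a b := by
    intro a b hab
    by_cases h0 : a 0 ≠ 0 ∨ b 0 ≠ 0
    · exact step2 a b h0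
    push Not at h0
    by_cases ha : ∃ i : Fin m, a i.succ ≠ 0
    · obtain ⟨i, hi'⟩ := ha
      obtain ⟨k, hk, hke⟩ := step2 a (b + Pi.single 0 (a i.succ)) (Or.inr (by simp [h0.2, hi']))
      refine ⟨hQ (-Pi.single i 1) * k, mul_mem (hQ' _) hk, ?_⟩
      rw [sp_mul_mulVec, hke, hQ_mulVec]
      congr 1
      funext l
      refine Fin.cases ?_ (fun l => ?_) l <;>
        simp [cons_dot, Fin.succ_ne_zero, h0.1, h0.2]
    · push Not at ha
      obtain ⟨i, hi'⟩ : ∃ i : Fin m, b i.succ ≠ 0 := by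
        by_contra hb
        push Not at hb
        apply hab
        funext l
        rcases l with l | l <;> refine Fin.cases ?_ (fun l => ?_) l <;> simp [h0.1, h0.2, ha, hb]
      obtain ⟨k, hk, hke⟩ := step2 a (b + Pi.single 0 (b i.succ)) (Or.inr (by simp [h0.2, hi']))
      refine ⟨lsh (Pi.single i 1) * k, mul_mem (hL _) hk, ?_⟩
      rw [sp_mul_mulVec, hke, lsh_mulVec]
      congr 1
      · funext l
        simp [h0.1]
      · funext l
        refine Fin.cases ?_ (fun l => ?_) l <;>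
          simp [cons_dot, Fin.succ_ne_zero, h0.2]
  rw [eq_top_iff, ← CfsgLib.Perm.Trans.Symp.closure_tvSet, Subgroup.closure_le]
  rintro A ⟨w, c, hw⟩
  have hA' : A = tv w c := Subtype.ext hw
  subst hA'
  by_cases hw0 : w = 0
  · subst hw0
    have : tv (0 : Fin (m + 1) ⊕ Fin (m + 1) → F) c = 1 := sp_ext_vec fun x => by
      simp [tv_mulVec]
    exact this ▸ H.one_mem
  obtain ⟨k, hk, hke⟩ := step3 (w ∘ Sum.inl) (w ∘ Sum.inr) (by rwa [Sum.elim_comp_inl_inr])
  rw [Sum.elim_comp_inl_inr] at hke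
  have hte : tv e c = iSL 0 (lo (-c)) := sp_ext_elim fun a b => by
    rw [tv_mulVec, iSL_mulVec, he, sf_elim]
    funext i
    rcases i with i | i <;> refine Fin.cases ?_ (fun i => ?_) i <;>
      simp [lo, Fin.succ_ne_zero]
  show tv w c ∈ H
  rw [← hke, ← tv_conj, hte]
  exact mul_mem (mul_mem hk (hA _)) (inv_mem hk)

end CfsgLib.Char.SpWeil
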