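/-
Congruence classes of symmetric matrices that are not of rank at most one.
-/
import Cfsg.Agent.Lib.Classical.WeilSp.SymOrbit

set_option autoImplicit false

namespace CfsgLib.Char.SpWeil

open Matrix CfsgLib.Classical.WeilSp

variable {F : Type*} [Field F]

/-- A multiple of the square of a vector. -/
def RankLE {n : ℕ} (A : Matrix (Fin n) (Fin n) F) : Prop :=
  ∃ (c : F) (u : Fin n → F), A = c • vecMulVec u u

theorem RankLE.congr {n : ℕ} {A : Matrix (Fin n) (Fin n) F} (h : RankLE A) (g : Matrix (Fin n) (Fin n) F) :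
    RankLE (gᵀ * A * g) := by
  obtain ⟨c, u, rfl⟩ := h
  refine ⟨c, gᵀ *ᵥ u, ?_⟩
  rw [Matrix.mul_smul, Matrix.smul_mul, mul_vecMulVec, vecMulVec_mul, mulVec_transpose]

theorem RankLE.of_congr {n : ℕ} {A : Matrix (Fin n) (Fin n) F} {g : Matrix (Fin n) (Fin n) F} (hg : g.det ≠ 0)
    (h : RankLE (gᵀ * A * g)) : RankLE A := by
  have hu : IsUnit g.det := isUnit_iff_ne_zero.2 hg
  have hu' : IsUnit gᵀ.det := by rwa [det_transpose]
  have := h.congr g⁻¹
  rwa [Matrix.mul_assoc, Matrix.mul_assoc, Matrix.mul_assoc, Matrix.mul_nonsing_inv g hu, Matrix.mul_one,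
    Matrix.transpose_nonsing_inv, Matrix.nonsing_inv_mul_cancel_left gᵀ _ hu'] at this

/-- The bordered matrix `diag(c, R)`. -/
def bord {n : ℕ} (c : F) (R : Matrix (Fin n) (Fin n) F) : Matrix (Fin (n + 1)) (Fin (n + 1)) F :=
  Matrix.of (Fin.cons (Fin.cons c 0) fun i => Fin.cons 0 (R i))

theorem bord_zero_eq {n : ℕ} (c : F) :
    bord c (0 : Matrix (Fin n) (Fin n) F) = c • vecMulVec (Pi.single 0 1) (Pi.single 0 1) := by
  ext i j
  refine Fin.cases ?_ (fun i => ?_) i <;> refine Fin.cases ?_ (fun j => ?_) j <;> simp [bord, vecMulVec_apply]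

theorem rankLE_bord_zero {n : ℕ} {R : Matrix (Fin n) (Fin n) F} (h : RankLE R) : RankLE (bord 0 R) := by
  obtain ⟨c, u, rfl⟩ := h
  refine ⟨c, Fin.cons 0 u, ?_⟩
  ext i j
  refine Fin.cases ?_ (fun i => ?_) i <;> refine Fin.cases ?_ (fun j => ?_) j <;> simp [bord, vecMulVec_apply]

theorem bord_congr {n : ℕ} (c : F) (R g' : Matrix (Fin n) (Fin n) F) :
    ∃ G : Matrix (Fin (n + 1)) (Fin (n + 1)) F, G.det = g'.det ∧ Gᵀ * bord c R * G = bord c (g'ᵀ * R * g') := by
  refine ⟨Matrix.of (Fin.cons (Fin.cons 1 0) fun i => Fin.cons 0 (g' i)), ?_, ?_⟩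
  · rw [Matrix.det_succ_row_zero, Fin.sum_univ_succ]
    simp
    rfl
  · ext i j
    rw [Matrix.mul_assoc, Matrix.mul_apply, Fin.sum_univ_succ]
    simp only [Matrix.mul_apply, Fin.sum_univ_succ]
    refine Fin.cases ?_ (fun i => ?_) i <;> refine Fin.cases ?_ (fun j => ?_) j <;>
      simp [bord, Matrix.mul_apply, Finset.mul_sum, mul_assoc]

theorem eq_bord_of_row {n : ℕ} {B : Matrix (Fin (n + 1)) (Fin (n + 1)) F} (hB : B.IsSymm)
    (h : ∀ j : Fin n, B 0 j.succ = 0) : B = bord (B 0 0) (B.submatrix Fin.succ Fin.succ) := by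
  ext i j
  refine Fin.cases ?_ (fun i => ?_) i <;> refine Fin.cases ?_ (fun j => ?_) j <;> simp [bord, h]
  rw [← hB.apply, h]

theorem isSymm_congr {n : ℕ} {A : Matrix (Fin n) (Fin n) F} (hA : A.IsSymm) (g : Matrix (Fin n) (Fin n) F) :
    (gᵀ * A * g).IsSymm := by
  rw [Matrix.IsSymm, transpose_mul, transpose_mul, transpose_transpose, hA.eq, Matrix.mul_assoc]

/-- Singular symmetric matrices have a zero border up to congruence. -/
theorem exists_bord_zero {n : ℕ} {A : Matrix (Fin (n + 1)) (Fin (n + 1)) F} (hA : A.IsSymm) (hd : A.det = 0) :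
    ∃ (g : Matrix (Fin (n + 1)) (Fin (n + 1)) F) (R : Matrix (Fin n) (Fin n) F),
      g.det ≠ 0 ∧ R.IsSymm ∧ gᵀ * A * g = bord 0 R := by
  obtain ⟨z, hz0, hz⟩ := Matrix.exists_mulVec_eq_zero_iff.2 hd
  obtain ⟨g, hg, hgv⟩ := exists_gl_col hz0
  refine ⟨g, _, hg, (isSymm_congr hA g).submatrix Fin.succ, ?_⟩
  have hrow : ∀ j, (gᵀ * A * g) j 0 = 0 := fun j => by rw [congr_apply, hgv, hz, dotProduct_zero]
  have h := eq_bord_of_row (isSymm_congr hA g) fun j => by rw [← (isSymm_congr hA g).apply]; exact hrow _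
  rwa [hrow 0] at h

theorem rankLE_of_le_one {n : ℕ} (hn : n ≤ 1) (A : Matrix (Fin n) (Fin n) F) : RankLE A := by
  rcases Nat.le_one_iff_eq_zero_or_eq_one.1 hn with rfl | rfl
  · exact ⟨0, 0, Subsingleton.elim _ _⟩
  · refine ⟨A 0 0, fun _ => 1, ?_⟩
    ext i j
    fin_cases i; fin_cases j
    simp [vecMulVec_apply]

theorem det_rankLE {n : ℕ} (hn : 2 ≤ n) {A : Matrix (Fin n) (Fin n) F} (h : RankLE A) : A.det = 0 := by
  classical
  obtain ⟨c, u, rfl⟩ := h
  let f : (Fin n → F) →ₗ[F] (Unit → F) :=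
    { toFun := fun x _ => u ⬝ᵥ x
      map_add' := fun x y => by ext; simp [dotProduct_add]
      map_smul' := fun r x => by ext; simp [dotProduct_smul] }
  obtain ⟨x, hx, hx0⟩ := Submodule.exists_mem_ne_zero_of_ne_bot
    (LinearMap.ker_ne_bot_of_finrank_lt (f := f) (by simp; omega))
  have hxu : u ⬝ᵥ x = 0 := congrFun (LinearMap.mem_ker.1 hx) ()
  refine Matrix.exists_mulVec_eq_zero_iff.1 ⟨x, hx0, ?_⟩
  rw [smul_mulVec, vecMulVec_mulVec, hxu]
  simp

variable [Fintype F]

/-- Symmetric matrices that are not of rank at most one represent every non-zero scalar. -/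
theorem exists_value' (h2 : ringChar F ≠ 2) : ∀ {n : ℕ} {A : Matrix (Fin n) (Fin n) F}, A.IsSymm → ¬ RankLE A →
    ∀ c : F, c ≠ 0 → ∃ v, v ≠ 0 ∧ v ⬝ᵥ A *ᵥ v = c
  | 0, A, _, h => absurd (rankLE_of_le_one (by omega) A) h
  | n + 1, A, hA, h => fun c hc => by
    by_cases hd : A.det = 0
    · obtain ⟨g, R, hg, hR, hgR⟩ := exists_bord_zero hA hd
      have hR1 : ¬ RankLE R := fun hR1 => h (RankLE.of_congr hg (hgR ▸ rankLE_bord_zero hR1))
      obtain ⟨v, hv, hval⟩ := exists_value' h2 hR hR1 c hc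
      have hv' : g *ᵥ Fin.cons 0 v ≠ 0 := fun e => hv (funext fun i => by
        simpa using congrFun (Matrix.eq_zero_of_mulVec_eq_zero hg e) i.succ)
      refine ⟨_, hv', ?_⟩
      have e1 : (g *ᵥ Fin.cons 0 v) ⬝ᵥ A *ᵥ (g *ᵥ Fin.cons 0 v) =
          (Fin.cons 0 v : Fin (n + 1) → F) ⬝ᵥ (gᵀ * A * g) *ᵥ Fin.cons 0 v := by
        rw [← mulVec_mulVec, ← mulVec_mulVec, dotProduct_mulVec _ gᵀ, vecMul_transpose]
      rw [e1, hgR, ← hval]
      simp [bord, dotProduct, mulVec, Fin.sum_univ_succ]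
    · rcases Nat.lt_or_ge (n + 1) 2 with hn | hn
      · exact absurd (rankLE_of_le_one (by omega) A) h
      · exact exists_value hn h2 hA hd c hc

omit [Fintype F] in
/-- Clearing the first row. -/
theorem exists_bord {n : ℕ} {A : Matrix (Fin (n + 1)) (Fin (n + 1)) F} (hA : A.IsSymm) {c : F} (hc : c ≠ 0)
    {v : Fin (n + 1) → F} (hv : v ≠ 0) (hval : v ⬝ᵥ A *ᵥ v = c) :
    ∃ (g : Matrix (Fin (n + 1)) (Fin (n + 1)) F) (R : Matrix (Fin n) (Fin n) F),
      g.det ≠ 0 ∧ R.IsSymm ∧ gᵀ * A * g = bord c R := by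
  classical
  obtain ⟨g, hg, hgv⟩ := exists_gl_col hv
  set B := gᵀ * A * g with hB
  have hB00 : B 0 0 = c := by rw [hB, congr_apply, hgv, hval]
  let η : Fin (n + 1) → F := Fin.cons 0 fun j => -B 0 j.succ / c
  have hη : (η ⬝ᵥ Pi.single 0 1 : F) = 0 := by simp [η]
  set U : Matrix (Fin (n + 1)) (Fin (n + 1)) F := 1 + vecMulVec (Pi.single 0 1) η with hU
  have hUd : U.det = 1 := by
    rw [hU, vecMulVec_eq (ι := Unit), det_one_add_replicateCol_mul_replicateRow, hη, add_zero]
  have hsym : ((g * U)ᵀ * A * (g * U)).IsSymm := isSymm_congr hA _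
  have e : (g * U)ᵀ * A * (g * U) = Uᵀ * B * U := by rw [hB, transpose_mul]; simp only [Matrix.mul_assoc]
  refine ⟨g * U, _, by rw [det_mul, hUd, mul_one]; exact hg, hsym.submatrix Fin.succ, ?_⟩
  have h00 : (Uᵀ * B * U) 0 0 = c := by
    rw [congr_apply, hU, add_mulVec, one_mulVec, vecMulVec_mulVec, hη]
    simp [hB00]
  have h0j : ∀ j : Fin n, (Uᵀ * B * U) 0 j.succ = 0 := fun j => by
    rw [congr_apply, hU, add_mulVec, one_mulVec, vecMulVec_mulVec, hη, add_mulVec, one_mulVec, vecMulVec_mulVec,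
      op_smul_eq_smul, op_smul_eq_smul, zero_smul, add_zero, mulVec_add, mulVec_smul, dotProduct_add, dotProduct_smul]
    simp [η, hB00, div_mul_cancel₀ _ hc]
  have := eq_bord_of_row hsym fun j => by rw [e]; exact h0j j
  conv_lhs => rw [this]
  congr 1
  rw [e, h00]

/-- The matrices of an invariant set with a given non-zero corner. -/
theorem card_corner {n : ℕ} {S : Finset (Matrix (Fin (n + 1)) (Fin (n + 1)) F)}
    (hS : ∀ g : Matrix (Fin (n + 1)) (Fin (n + 1)) F, g.det ≠ 0 → ∀ B ∈ S, gᵀ * B * g ∈ S)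
    [DecidableEq F] {c : F} (hc : c ≠ 0) (C : Finset (Matrix (Fin n) (Fin n) F)) (hC : ∀ R ∈ C, bord c R ∈ S) :
    Fintype.card F ^ n * C.card ≤ (S.filter fun B => B 0 0 = c).card := by
  let f : (Fin n → F) × Matrix (Fin n) (Fin n) F → Matrix (Fin (n + 1)) (Fin (n + 1)) F := fun p =>
    Matrix.of (Fin.cons (Fin.cons c p.1) fun i => Fin.cons (p.1 i) fun j => p.2 i j + p.1 i * p.1 j / c)
  have h := Finset.card_le_card_of_injOn (s := (Finset.univ : Finset (Fin n → F)) ×ˢ C)
    (t := S.filter fun B => B 0 0 = c) f (fun p hp => ?_) (fun p _ p' _ e => ?_)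
  · simpa using h
  · rw [Finset.coe_product, Set.mem_prod] at hp
    have hpC : p.2 ∈ C := Finset.mem_coe.1 hp.2
    refine Finset.mem_filter.2 ⟨?_, by simp [f]⟩
    let η : Fin (n + 1) → F := Fin.cons 0 fun j => p.1 j / c
    have hη : (η ⬝ᵥ Pi.single 0 1 : F) = 0 := by simp [η]
    have e : f p = (1 + vecMulVec (Pi.single 0 1) η)ᵀ * bord c p.2 * (1 + vecMulVec (Pi.single 0 1) η) := by
      have hcol : ∀ j, (1 + vecMulVec (Pi.single 0 1) η) *ᵥ Pi.single j 1 =
          Pi.single j 1 + η j • (Pi.single 0 1 : Fin (n + 1) → F) := fun j => by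
        rw [add_mulVec, one_mulVec, vecMulVec_mulVec, op_smul_eq_smul, dotProduct_single, mul_one]
      ext i j
      rw [congr_apply, hcol, hcol]
      simp only [mulVec_add, mulVec_smul, dotProduct_add, add_dotProduct, smul_dotProduct, dotProduct_smul,
        mulVec_single_one, single_one_dotProduct, col_apply, smul_eq_mul]
      refine Fin.cases ?_ (fun i => ?_) i <;> refine Fin.cases ?_ (fun j => ?_) j <;>
        simp [f, η, bord] <;> field_simp <;> ring
    rw [e]
    refine hS _ ?_ _ (hC _ hpC)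
    rw [vecMulVec_eq (ι := Unit), det_one_add_replicateCol_mul_replicateRow, hη, add_zero]
    exact one_ne_zero
  · have h1 : p.1 = p'.1 := funext fun j => by simpa [f] using congrFun (congrFun e 0) j.succ
    refine Prod.ext h1 (Matrix.ext fun i j => ?_)
    simpa [f, h1] using congrFun (congrFun e i.succ) j.succ

/-- Congruence classes of symmetric matrices that are not of rank at most one are large. -/
theorem orbit_card_two (h2 : ringChar F ≠ 2) (h3 : 3 ≤ Fintype.card F) :
    ∀ (n : ℕ) (S : Finset (Matrix (Fin n) (Fin n) F)),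
    (∀ g : Matrix (Fin n) (Fin n) F, g.det ≠ 0 → ∀ B ∈ S, gᵀ * B * g ∈ S) →
    ∀ A ∈ S, A.IsSymm → ¬ RankLE A →
      (Fintype.card F ^ n - 1) * (Fintype.card F ^ n - Fintype.card F) ≤ 2 * (Fintype.card F + 1) * S.card
  | 0, _, _, A, _, _, h => absurd (rankLE_of_le_one (by omega) A) h
  | n + 1, S, hS, A, hAS, hA, h1 => by
    classical
    set q := Fintype.card F with hq
    set X := q ^ n with hX
    have hn : 1 ≤ n := by
      by_contra hn
      exact h1 (rankLE_of_le_one (by omega) A)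
    have hqX : q ≤ X := Nat.le_self_pow (by omega) q
    obtain ⟨k, rfl⟩ : ∃ k, n = k + 1 := ⟨n - 1, by omega⟩
    -- the possible complements
    have hex : ∀ c : F, c ≠ 0 → ∃ R : Matrix (Fin (k + 1)) (Fin (k + 1)) F,
        bord c R ∈ S ∧ R.IsSymm ∧ R ≠ 0 ∧ (A.det ≠ 0 → R.det ≠ 0) := by
      intro c hc
      obtain ⟨v, hv, hval⟩ := exists_value' h2 hA h1 c hc
      obtain ⟨g, R, hg, hR, hgR⟩ := exists_bord hA hc hv hval
      refine ⟨R, hgR ▸ hS g hg A hAS, hR, fun e => h1 (RankLE.of_congr hg ?_), fun hd hR0 => ?_⟩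
      · rw [hgR, e]; exact ⟨c, _, bord_zero_eq c⟩
      · have := congrArg Matrix.det hgR
        rw [det_mul, det_mul, det_transpose] at this
        have e0 : (bord c R).det = 0 := by
          obtain ⟨z, hz0, hz⟩ := Matrix.exists_mulVec_eq_zero_iff.2 hR0
          refine Matrix.exists_mulVec_eq_zero_iff.1 ⟨Fin.cons 0 z, fun e => hz0 (funext fun i => by
            simpa using congrFun e i.succ), funext fun i => ?_⟩
          refine Fin.cases ?_ (fun i => ?_) i
          · simp [bord, mulVec, dotProduct, Fin.sum_univ_succ]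
          · simpa [bord, mulVec, dotProduct, Fin.sum_univ_succ] using congrFun hz i
        rw [e0] at this
        simp [hg, hd] at this
    let C : F → Finset (Matrix (Fin (k + 1)) (Fin (k + 1)) F) := fun c => Finset.univ.filter fun R => bord c R ∈ S
    have hCinv : ∀ (c : F) (g : Matrix (Fin (k + 1)) (Fin (k + 1)) F), g.det ≠ 0 → ∀ R ∈ C c, gᵀ * R * g ∈ C c := by
      intro c g hg R hR
      simp only [C, Finset.mem_filter, Finset.mem_univ, true_and] at hR ⊢
      obtain ⟨G, hG, e⟩ := bord_congr c R g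
      rw [← e]
      exact hS G (by rw [hG]; exact hg) _ hR
    set Z := (S.filter fun B => B 0 0 = 0).card with hZ
    have hsum : ∀ L, (∀ c : F, c ≠ 0 → L ≤ (S.filter fun B => B 0 0 = c).card) → (q - 1) * L + Z ≤ S.card := by
      intro L hL
      rw [Finset.card_eq_sum_card_fiberwise (t := Finset.univ) (f := fun B => B 0 0) (fun _ _ => Finset.mem_univ _),
        ← Finset.sum_erase_add _ _ (Finset.mem_univ (0 : F))]
      refine Nat.add_le_add ?_ le_rfl
      have := Finset.card_nsmul_le_sum (Finset.univ.erase (0 : F))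
        (fun c => (S.filter fun B => B 0 0 = c).card) L fun c hc => hL c (Finset.ne_of_mem_erase hc)
      simpa [← hq] using this
    have hcor : ∀ c : F, c ≠ 0 → X * (C c).card ≤ (S.filter fun B => B 0 0 = c).card := fun c hc =>
      card_corner hS hc _ fun R hR => (Finset.mem_filter.1 hR).2
    rw [pow_succ]
    by_cases hd : A.det = 0
    · obtain ⟨g, R0, hg, hR0, hgR⟩ := exists_bord_zero hA hd
      have hR01 : ¬ RankLE R0 := fun h => h1 (RankLE.of_congr hg (hgR ▸ rankLE_bord_zero h))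
      have hrec := orbit_card_two h2 h3 (k + 1) (C 0) (hCinv 0) R0
        (Finset.mem_filter.2 ⟨Finset.mem_univ _, hgR ▸ hS g hg A hAS⟩) hR0 hR01
      have hZC : (C 0).card ≤ Z := by
        refine Finset.card_le_card_of_injOn (bord 0) (fun R hR => ?_) fun R _ R' _ e => Matrix.ext fun i j => ?_
        · exact Finset.mem_filter.2 ⟨(Finset.mem_filter.1 hR).2, by simp [bord]⟩
        · simpa [bord] using congrFun (congrFun e i.succ) j.succ
      obtain ⟨L, hL⟩ : ∃ L, L = (q ^ (k + 1) - 1 + 1) / 2 := ⟨_, rfl⟩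
      have hone : ∀ c : F, c ≠ 0 → q ^ (k + 1) - 1 ≤ 2 * (C c).card := fun c hc => by
        obtain ⟨R, hRS, hR, hR0, -⟩ := hex c hc
        exact orbit_card h2 (k + 1) (C c) (hCinv c) R (Finset.mem_filter.2 ⟨Finset.mem_univ _, hRS⟩) hR hR0
      have hmain : (q - 1) * (X * (X - 1)) + 2 * Z ≤ 2 * S.card := by
        obtain ⟨c₀, hc₀, hmin⟩ := Finset.exists_min_image (Finset.univ.erase (0 : F)) (fun c => (C c).card)
          ⟨1, Finset.mem_erase.2 ⟨one_ne_zero, Finset.mem_univ _⟩⟩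
        have h := hsum (X * (C c₀).card) fun c hc => le_trans
          (Nat.mul_le_mul_left _ (hmin c (Finset.mem_erase.2 ⟨hc, Finset.mem_univ _⟩))) (hcor c hc)
        have h' := hone c₀ (Finset.ne_of_mem_erase hc₀)
        rw [← hX] at h'
        have h'' := Nat.mul_le_mul_left ((q - 1) * X) h'
        calc (q - 1) * (X * (X - 1)) + 2 * Z ≤ (q - 1) * X * (2 * (C c₀).card) + 2 * Z := by
              rw [← mul_assoc]; exact Nat.add_le_add_right h'' _
          _ = 2 * ((q - 1) * (X * (C c₀).card) + Z) := by ring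
          _ ≤ 2 * S.card := Nat.mul_le_mul_left 2 h
      rw [← hX, ← hq] at hrec
      rw [← hX]
      have hrec' : (X - 1) * (X - q) ≤ 2 * (q + 1) * Z := hrec.trans (Nat.mul_le_mul_left _ hZC)
      clear_value X Z
      clear hX
      have hX1 : 1 ≤ X := by omega
      zify [hX1, hqX, show 1 ≤ X * q from Nat.one_le_iff_ne_zero.2 (by positivity), show q ≤ X * q from Nat.le_mul_of_pos_left _ (by omega), show 1 ≤ q by omega] at hmain hrec' ⊢
      nlinarith
    · rcases Nat.eq_zero_or_pos k with rfl | hk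
      · have hone : ∀ c : F, c ≠ 0 → q - 1 ≤ 2 * (C c).card := fun c hc => by
          obtain ⟨R, hRS, hR, hR0, -⟩ := hex c hc
          simpa [← hq] using
            orbit_card h2 1 (C c) (hCinv c) R (Finset.mem_filter.2 ⟨Finset.mem_univ _, hRS⟩) hR hR0
        obtain ⟨c₀, hc₀, hmin⟩ := Finset.exists_min_image (Finset.univ.erase (0 : F)) (fun c => (C c).card)
          ⟨1, Finset.mem_erase.2 ⟨one_ne_zero, Finset.mem_univ _⟩⟩
        have h := hsum (X * (C c₀).card) fun c hc => le_trans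
          (Nat.mul_le_mul_left _ (hmin c (Finset.mem_erase.2 ⟨hc, Finset.mem_univ _⟩))) (hcor c hc)
        have h' := hone c₀ (Finset.ne_of_mem_erase hc₀)
        have hXq : X = q := by rw [hX]; simp
        rw [hXq] at h
        rw [← hX, hXq]
        clear hX hXq
        set D := (C c₀).card
        clear_value D Z
        zify [show 1 ≤ q by omega, show 1 ≤ q * q from Nat.one_le_iff_ne_zero.2 (by positivity), show q ≤ q * q from Nat.le_mul_of_pos_left _ (by omega)] at h h' ⊢
        have hq1 : (0 : ℤ) ≤ (q : ℤ) + 1 := by positivity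
        have e1 := mul_le_mul_of_nonneg_left h' (mul_nonneg hq1 (mul_nonneg
          (show (0 : ℤ) ≤ (q : ℤ) - 1 by omega) (show (0 : ℤ) ≤ (q : ℤ) by positivity)))
        have e2 := mul_le_mul_of_nonneg_left h hq1
        have e3 := mul_nonneg hq1 (show (0 : ℤ) ≤ (Z : ℤ) by positivity)
        linarith
      · have hone : ∀ c : F, c ≠ 0 → (X - 1) * (X - q) ≤ 2 * (q + 1) * (C c).card := fun c hc => by
          obtain ⟨R, hRS, hR, -, hRd⟩ := hex c hc
          exact orbit_card_two h2 h3 (k + 1) (C c) (hCinv c) R (Finset.mem_filter.2 ⟨Finset.mem_univ _, hRS⟩) hR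
            fun h => hRd hd (det_rankLE (by omega) h)
        obtain ⟨c₀, hc₀, hmin⟩ := Finset.exists_min_image (Finset.univ.erase (0 : F)) (fun c => (C c).card)
          ⟨1, Finset.mem_erase.2 ⟨one_ne_zero, Finset.mem_univ _⟩⟩
        have h := hsum (X * (C c₀).card) fun c hc => le_trans
          (Nat.mul_le_mul_left _ (hmin c (Finset.mem_erase.2 ⟨hc, Finset.mem_univ _⟩))) (hcor c hc)
        have h' := hone c₀ (Finset.ne_of_mem_erase hc₀)
        have hX2 : q * q ≤ X := by
          rw [hX, ← sq]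
          exact Nat.pow_le_pow_right (by omega) (by omega)
        rw [← hX]
        set D := (C c₀).card
        clear_value X D Z
        clear hX
        have hX1 : 1 ≤ X := by omega
        zify [hX1, hqX, show 1 ≤ X * q from Nat.one_le_iff_ne_zero.2 (by positivity), show q ≤ X * q from Nat.le_mul_of_pos_left _ (by omega), show 1 ≤ q by omega] at h h' h3 hX2 ⊢
        have a1 : (q : ℤ) * q ≤ ((q : ℤ) - 1) * (X - q) := by
          nlinarith [mul_le_mul_of_nonneg_left hX2 (show (0 : ℤ) ≤ (q : ℤ) - 1 by linarith), mul_nonneg (mul_nonneg (show (0:ℤ) ≤ (q:ℤ) by positivity) (show (0:ℤ) ≤ (q:ℤ) - 3 by linarith)) (show (0:ℤ) ≤ (q:ℤ) by positivity)]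
        have hXX : (0 : ℤ) ≤ (X : ℤ) * (X - 1) := mul_nonneg (by positivity) (by linarith)
        nlinarith [mul_le_mul_of_nonneg_left h' (show (0 : ℤ) ≤ ((q : ℤ) - 1) * X from mul_nonneg (by linarith) (by positivity)), mul_le_mul_of_nonneg_left a1 hXX, mul_nonneg (show (0:ℤ) ≤ (X:ℤ) - 1 by linarith) (show (0:ℤ) ≤ (q:ℤ) by positivity)]

end CfsgLib.Char.SpWeil
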