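/-
The spectrum of the lower unipotent radical in a representation of a symplectic group.
-/
import Cfsg.Agent.Lib.Char.SpWeil.Elems
import Cfsg.Agent.Lib.Char.SpWeil.Orbit
import Cfsg.Agent.Lib.LinDeg.Spectral

set_option autoImplicit false

namespace CfsgLib.Char.SpWeil

open Matrix
open CfsgLib.Classical.WeilSp (mat unmat mat_unmat unmat_mat mat_add dot_eq_trace)

variable {F : Type*} [Field F] {n : ℕ} {V : Type*} [AddCommGroup V] [Module ℂ V]
  (ψ : AddChar F ℂ) (ρ : Representation ℂ (Matrix.symplecticGroup (Fin n) F) V)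

/-- The eigenspaces of the lower unipotent radical. -/
def eig (B : Matrix (Fin n) (Fin n) F) : Submodule ℂ V where
  carrier := {v | ∀ (S : Matrix (Fin n) (Fin n) F) (hS : Sᵀ = S), ρ (low S hS) v = ψ ((S * B).trace) • v}
  add_mem' ha hb := fun S hS => by rw [map_add, ha S hS, hb S hS, smul_add]
  zero_mem' := fun S hS => by rw [map_zero, smul_zero]
  smul_mem' c v hv := fun S hS => by rw [map_smul, hv S hS, smul_comm]

theorem mem_eig {B : Matrix (Fin n) (Fin n) F} {v : V} :
    v ∈ eig ψ ρ B ↔ ∀ (S : Matrix (Fin n) (Fin n) F) (hS : Sᵀ = S), ρ (low S hS) v = ψ ((S * B).trace) • v :=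
  Iff.rfl

/-- All spectral matrices have rank at most one. -/
def RankOne : Prop := ∀ B : Matrix (Fin n) (Fin n) F, Bᵀ = B → eig ψ ρ B ≠ ⊥ → RankLE B

theorem trace_mul_vecMulVec (S : Matrix (Fin n) (Fin n) F) (c : F) (w : Fin n → F) :
    (S * (c • vecMulVec w w)).trace = c * (w ⬝ᵥ S *ᵥ w) := by
  rw [Matrix.mul_smul, mul_vecMulVec, trace_smul, trace_vecMulVec, smul_eq_mul, dotProduct_comm]

theorem levi_mem_eig {B : Matrix (Fin n) (Fin n) F} {v : V} (hv : v ∈ eig ψ ρ B)
    (g : Matrix (Fin n) (Fin n) F) (hg : g.det ≠ 0) :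
    ρ (CfsgLib.Classical.WeilSp.levi g hg) v ∈ eig ψ ρ (g * B * gᵀ) := by
  intro S hS
  have hS' : (gᵀ * S * g)ᵀ = gᵀ * S * g := by
    rw [transpose_mul, transpose_mul, transpose_transpose, hS, Matrix.mul_assoc]
  rw [← Module.End.mul_apply, ← map_mul, levi_low g hg S hS hS', map_mul, Module.End.mul_apply, hv _ hS', map_smul,
    Matrix.mul_assoc gᵀ, Matrix.mul_assoc gᵀ, Matrix.trace_mul_comm gᵀ]
  simp only [Matrix.mul_assoc]

variable [Fintype F]

theorem two_ne (h2 : ringChar F ≠ 2) : (2 : F) ≠ 0 := Ring.two_ne_zero h2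

variable (hψ : ψ.IsPrimitive) (h2 : ringChar F ≠ 2)

include hψ h2 in
/-- Symmetric matrices are determined by their characters. -/
theorem eq_of_char {B B' : Matrix (Fin n) (Fin n) F} (hB : Bᵀ = B) (hB' : B'ᵀ = B')
    (h : ∀ S : Matrix (Fin n) (Fin n) F, Sᵀ = S → ψ ((S * B).trace) = ψ ((S * B').trace)) : B = B' := by
  classical
  refine Matrix.ext fun i j => ?_
  by_contra hne
  have hD : B i j - B' i j + (B i j - B' i j) ≠ 0 := fun e => hne (sub_eq_zero.1
    ((mul_eq_zero.1 ((two_mul _).trans e)).resolve_left (two_ne h2)))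
  apply hψ hD
  ext a
  have h' := h (single i j a + single j i a) (by
    rw [transpose_add, transpose_single, transpose_single]; exact add_comm _ _)
  have e1 := congrFun (congrFun hB i) j
  have e2 := congrFun (congrFun hB' i) j
  rw [transpose_apply] at e1 e2
  simp only [Matrix.add_mul, trace_add, Matrix.trace_single_mul, smul_eq_mul, e1, e2] at h'
  show ψ ((B i j - B' i j + (B i j - B' i j)) * a) = (1 : AddChar F ℂ) a
  rw [AddChar.one_apply, show (B i j - B' i j + (B i j - B' i j)) * a =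
    (a * B i j + a * B i j) - (a * B' i j + a * B' i j) by ring, AddChar.map_sub_eq_div, h', div_self]
  exact (ψ.val_isUnit _).ne_zero

include hψ h2 in
/-- Distinct eigenvectors are independent. -/
theorem eq_zero_of_sum {ι : Type*} (s : Finset ι) (B : ι → Matrix (Fin n) (Fin n) F)
    (hB : ∀ i ∈ s, (B i)ᵀ = B i) (hinj : Set.InjOn B s) (f : ι → V) (hf : ∀ i ∈ s, f i ∈ eig ψ ρ (B i))
    (hsum : ∑ i ∈ s, f i = 0) : ∀ i ∈ s, f i = 0 := by
  classical
  induction s using Finset.induction_on generalizing f with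
  | empty => simp
  | insert a s ha ih =>
    have hsub : (↑s : Set ι) ⊆ ↑(insert a s) := fun x hx => Finset.mem_insert_of_mem hx
    have hz : ∀ i ∈ s, f i = 0 := by
      intro i hi
      obtain ⟨S, hS, hne⟩ : ∃ S, Sᵀ = S ∧ ψ ((S * B i).trace) ≠ ψ ((S * B a).trace) := by
        by_contra hcon
        push Not at hcon
        have hia := hinj (hsub hi) (Finset.mem_insert_self a s)
          (eq_of_char ψ hψ h2 (hB i (Finset.mem_insert_of_mem hi)) (hB a (Finset.mem_insert_self a s)) hcon)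
        exact ha (hia ▸ hi)
      set g : ι → V := fun k => (ψ ((S * B k).trace) - ψ ((S * B a).trace)) • f k with hg
      have hsum' : ∑ k ∈ s, g k = 0 := by
        have e1 := congrArg (ρ (low S hS)) hsum
        rw [map_sum, map_zero, Finset.sum_congr rfl fun k hk => hf k hk S hS] at e1
        have e2 : ψ ((S * B a).trace) • ∑ k ∈ insert a s, f k = 0 := by rw [hsum, smul_zero]
        rw [Finset.smul_sum] at e2
        have e3 : ∑ k ∈ insert a s, g k = 0 := by
          simp only [hg, sub_smul, Finset.sum_sub_distrib, e1, e2, sub_zero]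
        rwa [Finset.sum_insert ha, show g a = 0 by simp [hg], zero_add] at e3
      have hi0 := ih (fun k hk => hB k (Finset.mem_insert_of_mem hk)) (hinj.mono hsub) g
        (fun k hk => Submodule.smul_mem _ _ (hf k (Finset.mem_insert_of_mem hk))) hsum' i hi
      exact (smul_eq_zero.1 hi0).resolve_left (sub_ne_zero.2 hne)
    intro i hi
    rcases Finset.mem_insert.1 hi with rfl | hi
    · rwa [Finset.sum_insert ha, Finset.sum_eq_zero hz, add_zero] at hsum
    · exact hz i hi

include hψ h2 in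
/-- Every vector is a sum of eigenvectors. -/
theorem exists_decomp (v : V) : ∃ f : Matrix (Fin n) (Fin n) F → V,
    (∀ B, f B ∈ eig ψ ρ B) ∧ (∀ B, f B ≠ 0 → Bᵀ = B) ∧ v = ∑ B, f B := by
  classical
  have hsymm : ∀ a : Fin (n * n) → F, (mat a + (mat a)ᵀ)ᵀ = mat a + (mat a)ᵀ := fun a => by
    rw [transpose_add, transpose_transpose]; exact add_comm _ _
  set τ : (Fin (n * n) → F) → Module.End ℂ V := fun a => ρ (low _ (hsymm a)) with hτ
  have hadd : ∀ a b, τ (a + b) = τ a * τ b := fun a b => by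
    simp only [hτ]
    rw [← map_mul, low_mul]
    congr 1
    exact low_congr (by rw [mat_add, transpose_add]; abel) _ _
  have h0 : τ 0 = 1 := by
    simp only [hτ]
    rw [show low _ (hsymm 0) = 1 from (low_congr (by rw [show mat (0 : Fin (n * n) → F) = 0 from rfl]; simp) _ _).trans
      low_zero, map_one]
  have hK := CfsgLib.LinDeg.card_ne_zero F ℂ (by
    rw [ringChar.eq_zero]
    exact fun h => CharP.ringChar_ne_zero_of_finite F h.symm)
  set E := CfsgLib.LinDeg.eigProj ψ τ with hE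
  let sy : (Fin (n * n) → F) → Matrix (Fin n) (Fin n) F := fun w => (4 : F)⁻¹ • (mat w + (mat w)ᵀ)
  have h4 : (4 : F) ≠ 0 := by
    rw [show (4 : F) = 2 * 2 by norm_num]
    exact mul_ne_zero (two_ne h2) (two_ne h2)
  refine ⟨fun B => ∑ w ∈ Finset.univ.filter (fun w => sy w = B), E w v, fun B => ?_, fun B hB => ?_, ?_⟩
  · refine Submodule.sum_mem _ fun w hw => fun S hS => ?_
    obtain ⟨-, rfl⟩ := Finset.mem_filter.1 hw
    set a := unmat ((2 : F)⁻¹ • S) with ha
    have e0 : mat a + (mat a)ᵀ = S := by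
      rw [ha, mat_unmat, transpose_smul, hS, ← add_smul,
        show (2 : F)⁻¹ + 2⁻¹ = 1 by have := two_ne h2; field_simp; norm_num, one_smul]
    have h' := CfsgLib.LinDeg.mul_eigProj ψ τ hadd a w
    rw [show τ a = ρ (low S hS) from congrArg ρ (low_congr e0 _ _)] at h'
    rw [← hE] at h'
    rw [← Module.End.mul_apply, h', LinearMap.smul_apply]
    congr 2
    have e1 : a ⬝ᵥ w = (2 : F)⁻¹ * (S * mat w).trace := by
      rw [ha, dot_eq_trace, mat_unmat, transpose_smul, hS, Matrix.smul_mul, trace_smul, smul_eq_mul]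
    have e2 : (S * (mat w)ᵀ).trace = (S * mat w).trace := by
      rw [← trace_transpose, transpose_mul, transpose_transpose, hS, Matrix.trace_mul_comm]
    rw [e1, Matrix.mul_smul, trace_smul, Matrix.mul_add, trace_add, e2, smul_eq_mul]
    have := two_ne h2
    field_simp
    ring
  · obtain ⟨w, hw, -⟩ := Finset.exists_ne_zero_of_sum_ne_zero hB
    obtain ⟨-, rfl⟩ := Finset.mem_filter.1 hw
    show ((4 : F)⁻¹ • (mat w + (mat w)ᵀ))ᵀ = (4 : F)⁻¹ • (mat w + (mat w)ᵀ)
    rw [transpose_smul, hsymm]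
  · rw [Finset.sum_fiberwise]
    conv_lhs => rw [← Module.End.one_apply (R := ℂ) v, ← CfsgLib.LinDeg.sum_eigProj ψ hψ τ h0 hK]
    rw [LinearMap.sum_apply]

include hψ h2 in
/-- A finite set of occurring matrices is at most the dimension. -/
theorem card_le_finrank [FiniteDimensional ℂ V] (T : Finset (Matrix (Fin n) (Fin n) F))
    (hT : ∀ B ∈ T, Bᵀ = B ∧ eig ψ ρ B ≠ ⊥) : T.card ≤ Module.finrank ℂ V := by
  classical
  choose x hx hx0 using fun B : T => Submodule.exists_mem_ne_zero_of_ne_bot (hT B.1 B.2).2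
  have hli : LinearIndependent ℂ x := by
    rw [Fintype.linearIndependent_iff]
    intro c hc B
    have := eq_zero_of_sum ψ ρ hψ h2 Finset.univ (fun B : T => B.1) (fun B _ => (hT B.1 B.2).1)
      (fun a _ b _ e => Subtype.ext e) (fun B => c B • x B) (fun B _ => Submodule.smul_mem _ _ (hx B))
      hc B (Finset.mem_univ _)
    exact (smul_eq_zero.1 this).resolve_right (hx0 B)
  have := hli.fintype_card_le_finrank
  simpa using this

include hψ h2 in
/-- The degree of a representation whose spectrum is not of rank one. -/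
theorem gap [FiniteDimensional ℂ V] (h3 : 3 ≤ Fintype.card F) (h : ¬ RankOne ψ ρ) :
    (Fintype.card F ^ n - 1) * (Fintype.card F ^ n - Fintype.card F) ≤
      2 * (Fintype.card F + 1) * Module.finrank ℂ V := by
  classical
  unfold RankOne at h
  push Not at h
  obtain ⟨B, hB, hBe, hBr⟩ := h
  let T : Finset (Matrix (Fin n) (Fin n) F) := Finset.univ.filter fun B => Bᵀ = B ∧ eig ψ ρ B ≠ ⊥
  have hT : ∀ g : Matrix (Fin n) (Fin n) F, g.det ≠ 0 → ∀ B ∈ T, gᵀ * B * g ∈ T := by
    intro g hg B hB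
    simp only [T, Finset.mem_filter, Finset.mem_univ, true_and] at hB ⊢
    refine ⟨(isSymm_congr hB.1 g).eq, ?_⟩
    obtain ⟨v, hv, hv0⟩ := Submodule.exists_mem_ne_zero_of_ne_bot hB.2
    have hgt : gᵀ.det ≠ 0 := by rwa [det_transpose]
    have := levi_mem_eig ψ ρ hv gᵀ hgt
    rw [transpose_transpose] at this
    intro e
    rw [e, Submodule.mem_bot] at this
    apply hv0
    have h' := congrArg (ρ (CfsgLib.Classical.WeilSp.levi gᵀ hgt)⁻¹) this
    rwa [map_zero, ← Module.End.mul_apply, ← map_mul, inv_mul_cancel, map_one, Module.End.one_apply] at h'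
  refine (orbit_card_two h2 h3 n T hT B (Finset.mem_filter.2 ⟨Finset.mem_univ _, hB, hBe⟩) hB hBr).trans ?_
  exact Nat.mul_le_mul_left _ (card_le_finrank ψ ρ hψ h2 T fun B hB => (Finset.mem_filter.1 hB).2)

omit [Fintype F] in
theorem low_single_not_mem_center (i : Fin n) {c : F} (hc : c ≠ 0) :
    low (c • single i i 1) (by simp) ∉ Subgroup.center (Matrix.symplecticGroup (Fin n) F) := by
  intro h
  rw [← iSL_lo, Subgroup.mem_center_iff] at h
  have e := congrArg Subtype.val (h (iSL i rot))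
  have e' := congrArg (fun M => M *ᵥ Sum.elim (Pi.single i 1) (0 : Fin n → F)) e
  simp only [Submonoid.coe_mul, ← mulVec_mulVec, iSL_mulVec] at e'
  have := congrFun e' (Sum.inl i)
  simp [rot, lo] at this
  exact hc this

include hψ h2 in
/-- A non-trivial representation has a non-zero spectral matrix. -/
theorem exists_ne_zero (hn : 2 ≤ n) (h3 : 3 ≤ Fintype.card F) (hne : ∃ x, ρ x ≠ 1) :
    ∃ B : Matrix (Fin n) (Fin n) F, Bᵀ = B ∧ B ≠ 0 ∧ eig ψ ρ B ≠ ⊥ := by
  classical
  by_contra hcon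
  push Not at hcon
  obtain ⟨x, hx⟩ := hne
  apply hx
  have hker : ∀ (S : Matrix (Fin n) (Fin n) F) (hS : Sᵀ = S), low S hS ∈ MonoidHom.ker ρ := by
    intro S hS
    rw [MonoidHom.mem_ker]
    refine LinearMap.ext fun v => ?_
    obtain ⟨f, hf, hfs, hv⟩ := exists_decomp ψ ρ hψ h2 v
    have hf0 : ∀ B, B ≠ 0 → f B = 0 := fun B hB => by
      by_contra h
      have := hcon B (hfs B h) hB ▸ hf B
      exact h ((Submodule.mem_bot ℂ).1 this)
    rw [hv, map_sum, Module.End.one_apply]
    refine Finset.sum_congr rfl fun B _ => ?_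
    by_cases hB : B = 0
    · subst hB
      rw [hf 0 S hS, Matrix.mul_zero, trace_zero, AddChar.map_zero_eq_one, one_smul]
    · rw [hf0 B hB, map_zero]
  have i₀ : Fin n := ⟨0, by omega⟩
  have htop := CfsgLib.Classical.WeilSp.eq_top_of_normal hn h3 (hker _ _)
    (low_single_not_mem_center (F := F) i₀ one_ne_zero)
  exact MonoidHom.mem_ker.1 (htop ▸ Subgroup.mem_top x)

/-! ### The first hyperbolic pair -/

section First

variable {m : ℕ} (σ : Representation ℂ (Matrix.symplecticGroup (Fin (m + 1)) F) V)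

/-- The eigenspaces of a long root group. -/
def zeig (r : F) : Submodule ℂ V where
  carrier := {v | ∀ t, σ (iSL 0 (lo t)) v = ψ (t * r) • v}
  add_mem' ha hb := fun t => by rw [map_add, ha t, hb t, smul_add]
  zero_mem' := fun t => by rw [map_zero, smul_zero]
  smul_mem' c v hv := fun t => by rw [map_smul, hv t, smul_comm]

omit [Fintype F] in
theorem mem_zeig {r : F} {v : V} : v ∈ zeig ψ σ r ↔ ∀ t, σ (iSL 0 (lo t)) v = ψ (t * r) • v := Iff.rfl

omit [Fintype F] in
theorem eig_le_zeig (B : Matrix (Fin (m + 1)) (Fin (m + 1)) F) : eig ψ σ B ≤ zeig ψ σ (B 0 0) := by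
  intro v hv t
  rw [iSL_lo, hv _ _, Matrix.smul_mul, trace_smul, Matrix.trace_single_mul]
  simp

include hψ h2 in
/-- Decomposition of an eigenvector of the long root group. -/
theorem zeig_decomp {r : F} {v : V} (hv : v ∈ zeig ψ σ r) :
    ∃ f : Matrix (Fin (m + 1)) (Fin (m + 1)) F → V, (∀ B, f B ∈ eig ψ σ B) ∧
      (∀ B, f B ≠ 0 → Bᵀ = B ∧ B 0 0 = r) ∧ v = ∑ B, f B := by
  classical
  obtain ⟨f, hf, hfs, hvf⟩ := exists_decomp ψ σ hψ h2 v
  refine ⟨f, hf, fun B hB => ⟨hfs B hB, ?_⟩, hvf⟩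
  by_contra hr
  obtain ⟨t, ht⟩ : ∃ t, ψ (t * B 0 0) ≠ ψ (t * r) := by
    by_contra hcon
    push Not at hcon
    apply hψ (sub_ne_zero.2 hr)
    ext t
    show ψ ((B 0 0 - r) * t) = (1 : AddChar F ℂ) t
    rw [AddChar.one_apply, sub_mul, AddChar.map_sub_eq_div, mul_comm, hcon t, mul_comm, div_self]
    exact (ψ.val_isUnit _).ne_zero
  let s := Finset.univ.filter fun B => f B ≠ 0
  have hsum : ∑ C ∈ s, (ψ (t * C 0 0) - ψ (t * r)) • f C = 0 := by
    refine (Finset.sum_subset (s₂ := Finset.univ) (Finset.subset_univ _) fun C _ hC => ?_).trans ?_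
    · rw [not_not.1 fun h => hC (Finset.mem_filter.2 ⟨Finset.mem_univ _, h⟩), smul_zero]
    have e1 : σ (iSL 0 (lo t)) v = ∑ C, ψ (t * C 0 0) • f C := by
      conv_lhs => rw [hvf]
      rw [map_sum]
      exact Finset.sum_congr rfl fun C _ => eig_le_zeig ψ σ C (hf C) t
    have e2 : σ (iSL 0 (lo t)) v = ∑ C, ψ (t * r) • f C := by rw [hv t, ← Finset.smul_sum, ← hvf]
    simp only [sub_smul, Finset.sum_sub_distrib, ← e1, ← e2, sub_self]
  have := eq_zero_of_sum ψ σ hψ h2 s id (fun C hC => hfs C (Finset.mem_filter.1 hC).2) Function.injective_id.injOn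
    (fun C => (ψ (t * C 0 0) - ψ (t * r)) • f C) (fun C _ => Submodule.smul_mem _ _ (hf C)) hsum B
    (Finset.mem_filter.2 ⟨Finset.mem_univ _, hB⟩)
  exact hB ((smul_eq_zero.1 this).resolve_left (sub_ne_zero.2 ht))

include hψ h2 in
/-- Fixed vectors of the long root group are fixed by the first row. -/
theorem hQ_fix (hR : RankOne ψ σ) {v : V} (hv : v ∈ zeig ψ σ 0) (s : Fin m → F) : σ (hQ s) v = v := by
  classical
  obtain ⟨f, hf, hfs, hvf⟩ := zeig_decomp ψ hψ h2 σ hv
  rw [hvf, map_sum]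
  refine Finset.sum_congr rfl fun B _ => ?_
  by_cases hB : f B = 0
  · rw [hB, map_zero]
  obtain ⟨hBs, hB0⟩ := hfs B hB
  obtain ⟨c, u, rfl⟩ := hR B hBs (fun e => hB ((Submodule.mem_bot ℂ).1 (e ▸ hf B)))
  rw [hQ, hf _ _ _, trace_mul_vecMulVec]
  simp [vecMulVec_apply] at hB0
  rcases hB0 with hc | hu
  · simp [hc]
  · simp [sR, add_mulVec, vecMulVec_mulVec, hu, dotProduct_add]

include hψ h2 in
/-- Fixed vectors of the long root group are fixed by the shears. -/
theorem lsh_fix (hR : RankOne ψ σ) {v : V} (hv : v ∈ zeig ψ σ 0) (y : Fin m → F) : σ (lsh y) v = v := by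
  have hjv : σ jP v ∈ zeig ψ σ 0 := fun t => by
    rw [← Module.End.mul_apply, ← map_mul, ← jP_iSL_zero, map_mul, Module.End.mul_apply, hv t, map_smul]
  have h := hQ_fix ψ hψ h2 σ hR hjv (-y)
  rw [← Module.End.mul_apply, ← map_mul, ← jP_lsh, map_mul, Module.End.mul_apply] at h
  have h' := congrArg (σ jP⁻¹) h
  rwa [← Module.End.mul_apply, ← map_mul, inv_mul_cancel, map_one, Module.End.one_apply, ← Module.End.mul_apply,
    ← map_mul, inv_mul_cancel, map_one, Module.End.one_apply] at h'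

omit [Fintype F] in
/-- Shears move the eigenspaces. -/
theorem lsh_mem_eig {B : Matrix (Fin (m + 1)) (Fin (m + 1)) F} {v : V} (hv : v ∈ eig ψ σ B) (y : Fin m → F) :
    σ (lsh y) v ∈ eig ψ σ ((1 + vecMulVec (Fin.cons 0 y) (Pi.single 0 1)) * B *
      (1 + vecMulVec (Fin.cons 0 y) (Pi.single 0 1))ᵀ) := by
  set g : Matrix (Fin (m + 1)) (Fin (m + 1)) F := 1 + vecMulVec (Fin.cons 0 y) (Pi.single 0 1) with hg
  have h0 : (Pi.single 0 (1 : F) : Fin (m + 1) → F) ⬝ᵥ Fin.cons 0 y = 0 := by simp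
  have hd : g.det ≠ 0 := by
    rw [hg, vecMulVec_eq (ι := Unit), det_one_add_replicateCol_mul_replicateRow, h0, add_zero]
    exact one_ne_zero
  have hi : g⁻¹ = 1 - vecMulVec (Fin.cons 0 y) (Pi.single 0 1) := by
    refine Matrix.inv_eq_right_inv ?_
    rw [hg, Matrix.add_mul, Matrix.one_mul, Matrix.mul_sub, Matrix.mul_one, vecMulVec_mul_vecMulVec, h0]
    simp
  have : lsh y = CfsgLib.Classical.WeilSp.levi g hd := sp_ext_elim fun a b => by
    rw [levi_mulVec, lsh_mulVec, hi, transpose_sub, transpose_one, transpose_vecMulVec, sub_mulVec, one_mulVec,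
      vecMulVec_mulVec, hg, add_mulVec, one_mulVec, vecMulVec_mulVec, op_smul_eq_smul, op_smul_eq_smul,
      single_dotProduct, one_mul, ← Pi.single_smul, smul_eq_mul, mul_one]
  rw [this]
  exact levi_mem_eig ψ σ hv g hd

omit [Fintype F] in
theorem shear_congr (c : F) (x : Fin (m + 1) → F) (y : Fin m → F) :
    (1 + vecMulVec (Fin.cons 0 y) (Pi.single 0 1)) * (c • vecMulVec x x) *
      (1 + vecMulVec (Fin.cons 0 y) (Pi.single 0 1))ᵀ =
    c • vecMulVec (x + x 0 • Fin.cons 0 y) (x + x 0 • Fin.cons 0 y) := by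
  rw [Matrix.mul_smul, Matrix.smul_mul, mul_vecMulVec, vecMulVec_mul, vecMul_transpose, add_mulVec, one_mulVec,
    vecMulVec_mulVec, op_smul_eq_smul, single_dotProduct, one_mul]

include hψ h2 in
/-- The eigenspace of the long root group is spanned by shears of one eigenspace. -/
theorem zeig_shear (hR : RankOne ψ σ) {r : F} (hr : r ≠ 0) {v : V} (hv : v ∈ zeig ψ σ r) :
    v ∈ Submodule.span ℂ {x | ∃ y : Fin m → F, ∃ u ∈ eig ψ σ (r • vecMulVec (Pi.single 0 1) (Pi.single 0 1)),
      x = σ (lsh y) u} := by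
  classical
  obtain ⟨f, hf, hfs, hvf⟩ := zeig_decomp ψ hψ h2 σ hv
  rw [hvf]
  refine Submodule.sum_mem _ fun B _ => ?_
  by_cases hB : f B = 0
  · rw [hB]; exact Submodule.zero_mem _
  obtain ⟨hBs, hB0⟩ := hfs B hB
  obtain ⟨c, u, rfl⟩ := hR B hBs (fun e => hB ((Submodule.mem_bot ℂ).1 (e ▸ hf B)))
  simp [vecMulVec_apply] at hB0
  have hu : u 0 ≠ 0 := fun e => hr (by rw [← hB0, e]; ring)
  set y : Fin m → F := fun i => u i.succ / u 0
  have key := lsh_mem_eig ψ σ (hf (c • vecMulVec u u)) (-y)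
  rw [shear_congr] at key
  have e : u + u 0 • Fin.cons 0 (-y) = Pi.single 0 (u 0) := funext fun i =>
    Fin.cases (by simp) (fun i => by simp [y, mul_div_cancel₀ _ hu, Fin.succ_ne_zero]) i
  rw [e, show c • vecMulVec (Pi.single (0 : Fin (m + 1)) (u 0)) (Pi.single (0 : Fin (m + 1)) (u 0)) =
      r • vecMulVec (Pi.single 0 (1 : F)) (Pi.single (0 : Fin (m + 1)) 1) by
    rw [← hB0]
    ext i j
    by_cases hi : i = 0 <;> by_cases hj : j = 0 <;> simp [vecMulVec_apply, hi, hj]] at key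
  refine Submodule.subset_span ⟨y, _, key, ?_⟩
  rw [← Module.End.mul_apply, ← map_mul]
  rw [show lsh y * lsh (-y) = 1 from sp_ext_elim fun a b => by
    rw [CfsgLib.Sp.sp_mul_mulVec, lsh_mulVec, lsh_mulVec, CfsgLib.Sp.sp_one_mulVec]
    congr 1 <;> funext i <;> refine Fin.cases ?_ (fun i => ?_) i <;>
      simp [dotProduct, Fin.sum_univ_succ, Fin.succ_ne_zero]]
  simp

end First

end CfsgLib.Char.SpWeil
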