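/-
The group algebra of the first `SL₂` acting in a representation of a symplectic group.
-/
import Cfsg.Agent.Lib.Char.SpWeil.Spec

set_option autoImplicit false

namespace CfsgLib.Char.SpWeil

open Matrix CfsgLib.Sp

variable {F : Type*} [Field F]

local notation "G[" n "]" => Matrix.symplecticGroup (Fin n) F
local notation "SL₂" => Matrix.SpecialLinearGroup (Fin 2) F

theorem iSL_comm {n : ℕ} {i j : Fin n} (hij : i ≠ j) (M N : SL₂) : iSL i M * iSL j N = iSL j N * iSL i M := by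
  refine sp_ext_elim fun a b => ?_
  rw [sp_mul_mulVec, sp_mul_mulVec, iSL_mulVec, iSL_mulVec, iSL_mulVec, iSL_mulVec]
  congr 1 <;>
  · funext k
    simp only [Pi.add_apply, Pi.single_eq_of_ne hij, Pi.single_eq_of_ne (Ne.symm hij), add_zero]
    ring

variable {m : ℕ} {V W : Type*} [AddCommGroup V] [Module ℂ V] [AddCommGroup W] [Module ℂ W]

theorem iSL_zero_lo_comm_lsh (t : F) (y : Fin m → F) : iSL 0 (lo t) * lsh y = lsh y * iSL 0 (lo t) := by
  refine sp_ext_elim fun a b => ?_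
  rw [sp_mul_mulVec, sp_mul_mulVec, iSL_mulVec, lsh_mulVec, iSL_mulVec, lsh_mulVec]
  congr 1 <;> funext i <;> refine Fin.cases ?_ (fun i => ?_) i <;>
    simp [lo, dotProduct, Fin.sum_univ_succ, Fin.succ_ne_zero, Pi.single_apply] <;> ring

theorem iSL_zero_lo_comm_hQ (t : F) (s : Fin m → F) : iSL 0 (lo t) * hQ s = hQ s * iSL 0 (lo t) := by
  rw [iSL_lo, hQ, low_mul, low_mul]
  exact low_congr (add_comm _ _) _ _

/-- The action of the group algebra of the `j`-th `SL₂`. -/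
noncomputable def aA {n : ℕ} (ρ : Representation ℂ (G[n]) V) (j : Fin n) :
    MonoidAlgebra ℂ SL₂ →ₐ[ℂ] Module.End ℂ V :=
  Representation.asAlgebraHom (ρ.comp (iSL j))

theorem aA_of {n : ℕ} (ρ : Representation ℂ (G[n]) V) (j : Fin n) (M : SL₂) :
    aA ρ j (.of ℂ SL₂ M) = ρ (iSL j M) :=
  Representation.asAlgebraHom_of _ _

/-- A linear map intertwining the `j`-th `SL₂` intertwines its group algebra. -/
theorem aA_inter {n : ℕ} (ρ : Representation ℂ (G[n]) V) (ρ' : Representation ℂ (G[n]) W) (i j : Fin n)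
    (T : V →ₗ[ℂ] W) (h : ∀ M v, T (ρ (iSL i M) v) = ρ' (iSL j M) (T v)) (X : MonoidAlgebra ℂ SL₂) (v : V) :
    T (aA ρ i X v) = aA ρ' j X (T v) := by
  induction X using MonoidAlgebra.induction_on with
  | of M => rw [aA_of, aA_of, h]
  | add x y hx hy => rw [map_add, map_add, LinearMap.add_apply, LinearMap.add_apply, map_add, hx, hy]
  | smul r x hx => rw [map_smul, map_smul, LinearMap.smul_apply, LinearMap.smul_apply, map_smul, hx]

theorem aA_prod {n : ℕ} (ρ : Representation ℂ (G[n]) V) (ρ' : Representation ℂ (G[n]) W) (j : Fin n)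
    (X : MonoidAlgebra ℂ SL₂) (p : V × W) :
    aA (ρ.prod ρ') j X p = (aA ρ j X p.1, aA ρ' j X p.2) :=
  Prod.ext (aA_inter (ρ.prod ρ') ρ j j (LinearMap.fst ℂ V W) (fun _ _ => rfl) X p)
    (aA_inter (ρ.prod ρ') ρ' j j (LinearMap.snd ℂ V W) (fun _ _ => rfl) X p)

variable [Fintype F] (ψ : AddChar F ℂ)

/-- The Fourier element of a character of the lower unipotent group. -/
noncomputable def fe (r : F) : MonoidAlgebra ℂ SL₂ :=
  (Fintype.card F : ℂ)⁻¹ • ∑ t : F, ψ (-(t * r)) • .of ℂ SL₂ (lo t)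

theorem aA_fe (σ : Representation ℂ (G[m + 1]) V) (r : F) (v : V) :
    aA σ 0 (fe ψ r) v = (Fintype.card F : ℂ)⁻¹ • ∑ t : F, ψ (-(t * r)) • σ (iSL 0 (lo t)) v := by
  simp only [fe, map_smul, map_sum, aA_of, LinearMap.smul_apply, LinearMap.sum_apply]

variable (σ : Representation ℂ (Matrix.symplecticGroup (Fin (m + 1)) F) V) (hψ : ψ.IsPrimitive) (h2 : ringChar F ≠ 2)

include hψ in
theorem fe_of_mem {r r' : F} {v : V} (hv : v ∈ zeig ψ σ r') [Decidable (r = r')] :
    aA σ 0 (fe ψ r) v = if r = r' then v else 0 := by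
  classical
  have hq : (Fintype.card F : ℂ) ≠ 0 := Nat.cast_ne_zero.2 Fintype.card_ne_zero
  rw [aA_fe, Finset.sum_congr rfl fun t _ => by rw [hv t, smul_smul, ← AddChar.map_add_eq_mul], ← Finset.sum_smul,
    smul_smul]
  have h' := AddChar.sum_mulShift (r' - r) hψ
  push_cast at h'
  rw [Finset.sum_congr rfl fun t _ => by rw [show -(t * r) + t * r' = t * (r' - r) by ring], h']
  by_cases h : r = r'
  · rw [if_pos h, if_pos (sub_eq_zero.2 h.symm), inv_mul_cancel₀ hq, one_smul]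
  · rw [if_neg h, if_neg (sub_ne_zero.2 (Ne.symm h)), mul_zero, zero_smul]

theorem fe_mem (r : F) (v : V) : aA σ 0 (fe ψ r) v ∈ zeig ψ σ r := by
  intro t
  rw [aA_fe, map_smul, map_sum, smul_comm (ψ (t * r))]
  congr 1
  rw [Finset.smul_sum]
  refine Fintype.sum_equiv (Equiv.addLeft t) _ _ fun s => ?_
  rw [map_smul, smul_smul, ← AddChar.map_add_eq_mul, ← Module.End.mul_apply, ← map_mul, ← map_mul, Equiv.coe_addLeft,
    show lo t * lo s = lo (t + s) from Subtype.ext (by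
      rw [Matrix.SpecialLinearGroup.coe_mul]; ext i j; fin_cases i <;> fin_cases j <;> simp [lo])]
  congr 2
  ring

include hψ h2 in
theorem sum_fe (v : V) : ∑ r : F, aA σ 0 (fe ψ r) v = v := by
  classical
  obtain ⟨f, hf, -, hv⟩ := exists_decomp ψ σ hψ h2 v
  conv_lhs => rw [hv]
  simp only [map_sum]
  rw [Finset.sum_comm]
  conv_rhs => rw [hv]
  refine Finset.sum_congr rfl fun B _ => ?_
  simp only [fe_of_mem ψ σ hψ (eig_le_zeig ψ σ B (hf B))]
  simp

omit [Fintype F] in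
theorem dia_mem_zeig {r : F} {v : V} (hv : v ∈ zeig ψ σ r) (t : F) (ht : t ≠ 0) :
    σ (iSL 0 (dia t ht)) v ∈ zeig ψ σ (r * (t * t)) := by
  intro s
  have e := dia_lo t ht (s * (t * t))
  rw [mul_div_cancel_right₀ _ (mul_ne_zero ht ht)] at e
  rw [← Module.End.mul_apply, ← map_mul, ← map_mul, ← e, map_mul, map_mul, Module.End.mul_apply, hv, map_smul]
  congr 2
  ring

include hψ h2 in
theorem fe_dia {t : F} (ht : t ≠ 0) (r : F) (v : V) :
    σ (iSL 0 (dia t ht)) (aA σ 0 (fe ψ r) v) = aA σ 0 (fe ψ (r * (t * t))) (σ (iSL 0 (dia t ht)) v) := by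
  classical
  conv_rhs => rw [← sum_fe ψ σ hψ h2 v, map_sum, map_sum]
  rw [Finset.sum_eq_single r]
  · rw [fe_of_mem ψ σ hψ (dia_mem_zeig ψ σ (fe_mem ψ σ r v) t ht), if_pos rfl]
  · intro r' _ hr'
    rw [fe_of_mem ψ σ hψ (dia_mem_zeig ψ σ (fe_mem ψ σ r' v) t ht),
      if_neg fun e => hr' (mul_right_cancel₀ (mul_ne_zero ht ht) e).symm]
  · simp

end CfsgLib.Char.SpWeil
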