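/-
Formulas for the Weil representation of a symplectic group over a field of odd order.
-/
import Cfsg.Agent.Lib.Char.SpWeil.Spec
import Cfsg.Agent.Lib.Classical.WeilSp.Weil
import Cfsg.Agent.Lib.Char.Basic

set_option autoImplicit false

namespace CfsgLib.Char.SpWeil

open Matrix CfsgLib.Sp
open CfsgLib.Classical.WeilSp (wop parity parSpace weilOp weilOp_spec wop_apply parity_apply)

variable {F : Type*} [Field F] [Fintype F] {n : ℕ}

local notation "G[" n "]" => Matrix.symplecticGroup (Fin n) F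
local notation "Fun[" n "]" => ((Fin n → F) → ℂ)

variable (ψ : AddChar F ℂ) (hψ : ψ.IsPrimitive) (h2 : ringChar F ≠ 2)

/-- The Weil representation. -/
noncomputable def wR : Representation ℂ (G[n]) (Fun[n]) where
  toFun := weilOp ψ hψ h2
  map_one' := CfsgLib.Classical.WeilSp.weilOp_one ψ hψ h2
  map_mul' := CfsgLib.Classical.WeilSp.weilOp_mul ψ hψ h2

theorem wR_apply (g : G[n]) : wR ψ hψ h2 g = weilOp ψ hψ h2 g := rfl

theorem wR_inter (g : G[n]) (v : Fin n ⊕ Fin n → F) :
    wR ψ hψ h2 g * wop ψ v = wop ψ (g.1 *ᵥ v) * wR ψ hψ h2 g :=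
  (weilOp_spec ψ hψ h2 g).2.1 v

/-- Substitution followed by multiplication. -/
def mon (e : (Fin n → F) → (Fin n → F)) (φ : (Fin n → F) → ℂ) : Module.End ℂ (Fun[n]) where
  toFun f x := φ x * f (e x)
  map_add' f g := by ext x; simp [mul_add]
  map_smul' c f := by ext x; simp; ring

omit [Fintype F] in
theorem mon_apply (e : (Fin n → F) → (Fin n → F)) (φ : (Fin n → F) → ℂ) (f : Fun[n]) (x : Fin n → F) :
    mon e φ f x = φ x * f (e x) := rfl

theorem isUnit_mon {e : (Fin n → F) → (Fin n → F)} (he : Function.Bijective e) {φ : (Fin n → F) → ℂ}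
    (hφ : ∀ x, φ x ≠ 0) : IsUnit (mon e φ) := by
  rw [LinearMap.isUnit_iff_ker_eq_bot, LinearMap.ker_eq_bot']
  intro f hf
  funext y
  obtain ⟨x, rfl⟩ := he.2 y
  exact (mul_eq_zero.1 (congrFun hf x)).resolve_left (hφ x)

/-- An intertwiner is a multiple of the normalized one. -/
theorem wR_eq_smul {g : G[n]} {U : Module.End ℂ (Fun[n])} (hU : IsUnit U)
    (h : ∀ v, U * wop ψ v = wop ψ (g.1 *ᵥ v) * U) : ∃ k : ℂ, k ≠ 0 ∧ wR ψ hψ h2 g = k • U := by
  obtain ⟨u, rfl⟩ := hU
  have hinv : ∀ v, ((u⁻¹ : (Module.End ℂ (Fun[n]))ˣ) : Module.End ℂ (Fun[n])) * wop ψ (g.1 *ᵥ v) =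
      wop ψ v * ((u⁻¹ : (Module.End ℂ (Fun[n]))ˣ) : Module.End ℂ (Fun[n])) := fun v => by
    have := h v
    rw [← Units.eq_inv_mul_iff_mul_eq] at this
    rw [this]
    simp [mul_assoc]
  obtain ⟨c, hc⟩ := CfsgLib.Classical.WeilSp.scalar_of_commute ψ hψ h2
    (X := ((u⁻¹ : (Module.End ℂ (Fun[n]))ˣ) : Module.End ℂ (Fun[n])) * wR ψ hψ h2 g) fun v => by
    rw [mul_assoc, wR_inter ψ hψ h2, ← mul_assoc, hinv, mul_assoc]
  have hg : wR ψ hψ h2 g = c • (u : Module.End ℂ (Fun[n])) := by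
    have := congrArg (fun X => (u : Module.End ℂ (Fun[n])) * X) hc
    simpa [← mul_assoc] using this
  refine ⟨c, fun h0 => ?_, hg⟩
  have hu := (weilOp_spec ψ hψ h2 g).1
  rw [← wR_apply ψ hψ h2, hg, h0, zero_smul, isUnit_zero_iff] at hu
  exact zero_ne_one' ℂ (by simpa using congrFun (LinearMap.congr_fun hu fun _ => 1) 0)

/-! ### Lower unipotent elements -/

/-- The multipliers of the lower unipotent elements. -/
noncomputable def lowφ (S : Matrix (Fin n) (Fin n) F) (x : Fin n → F) : ℂ :=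
  ψ (-(2 : F)⁻¹ * (x ⬝ᵥ S *ᵥ x))

theorem low_smul (S : Matrix (Fin n) (Fin n) F) (hS : Sᵀ = S) :
    ∃ k : ℂ, k ≠ 0 ∧ wR ψ hψ h2 (low S hS) = k • mon id (lowφ ψ S) := by
  refine wR_eq_smul ψ hψ h2 (isUnit_mon Function.bijective_id fun x => (ψ.val_isUnit _).ne_zero) fun v => ?_
  obtain ⟨a, b, rfl⟩ : ∃ a b, v = Sum.elim a b := ⟨_, _, (Sum.elim_comp_inl_inr v).symm⟩
  refine LinearMap.ext fun f => funext fun x => ?_
  rw [low_mulVec]
  simp only [Module.End.mul_apply, mon_apply, wop_apply, id, lowφ, Sum.elim_inl, Sum.elim_inr]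
  rw [← mul_assoc, ← AddChar.map_add_eq_mul, ← mul_assoc, ← AddChar.map_add_eq_mul]
  congr 2
  change _ = (S *ᵥ a + b) ⬝ᵥ x + 2⁻¹ * (a ⬝ᵥ (S *ᵥ a + b)) + -2⁻¹ * ((x + a) ⬝ᵥ S *ᵥ (x + a))
  change -2⁻¹ * (x ⬝ᵥ S *ᵥ x) + (b ⬝ᵥ x + 2⁻¹ * (a ⬝ᵥ b)) = _
  have hsym : a ⬝ᵥ S *ᵥ x = x ⬝ᵥ S *ᵥ a := by
    rw [dotProduct_mulVec, ← mulVec_transpose, hS, dotProduct_comm]
  simp only [add_dotProduct, dotProduct_add, mulVec_add, dotProduct_comm (S *ᵥ a) x, hsym]
  have := two_ne h2
  field_simp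
  ring

/-- The scalar of a lower unipotent element. -/
noncomputable def kap (X : Matrix (Fin n) (Fin n) F) : ℂ :=
  wR ψ hψ h2 (low (X + Xᵀ) (by rw [transpose_add, transpose_transpose]; exact add_comm _ _)) (fun _ => 1) 0

theorem low_eq_kap (X S : Matrix (Fin n) (Fin n) F) (hS : Sᵀ = S) (h : X + Xᵀ = S) :
    wR ψ hψ h2 (low S hS) = kap ψ hψ h2 X • mon id (lowφ ψ S) := by
  obtain ⟨k, -, hk⟩ := low_smul ψ hψ h2 S hS
  rw [hk]
  congr 1
  rw [kap, low_congr h _ hS, hk, LinearMap.smul_apply, Pi.smul_apply, mon_apply, lowφ]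
  simp

theorem kap_add (X Y : Matrix (Fin n) (Fin n) F) :
    kap ψ hψ h2 (X + Y) = kap ψ hψ h2 X * kap ψ hψ h2 Y := by
  have hX : (X + Xᵀ)ᵀ = X + Xᵀ := by rw [transpose_add, transpose_transpose]; exact add_comm _ _
  have hY : (Y + Yᵀ)ᵀ = Y + Yᵀ := by rw [transpose_add, transpose_transpose]; exact add_comm _ _
  have e : X + Y + (X + Y)ᵀ = (X + Xᵀ) + (Y + Yᵀ) := by rw [transpose_add]; abel
  conv_lhs => rw [kap, low_congr e _ (by rw [transpose_add, hX, hY]), ← low_mul _ _ hX hY, map_mul,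
    low_eq_kap ψ hψ h2 X _ hX rfl, low_eq_kap ψ hψ h2 Y _ hY rfl]
  rw [Module.End.mul_apply, LinearMap.smul_apply, LinearMap.smul_apply, Pi.smul_apply, mon_apply, Pi.smul_apply,
    mon_apply]
  simp [lowφ]

theorem kap_zero : kap ψ hψ h2 (0 : Matrix (Fin n) (Fin n) F) = 1 := by
  rw [kap, low_congr (show (0 : Matrix (Fin n) (Fin n) F) + 0ᵀ = 0 by simp) _ transpose_zero, low_zero, map_one]
  rfl

theorem levi_smul (g : Matrix (Fin n) (Fin n) F) (hg : g.det ≠ 0) :
    ∃ k : ℂ, k ≠ 0 ∧ wR ψ hψ h2 (CfsgLib.Classical.WeilSp.levi g hg) = k • mon (fun x => g⁻¹ *ᵥ x) 1 := by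
  have hu : IsUnit g.det := isUnit_iff_ne_zero.2 hg
  refine wR_eq_smul ψ hψ h2 (isUnit_mon ?_ fun x => one_ne_zero) fun v => ?_
  · refine Finite.injective_iff_bijective.1 fun a b e => ?_
    have := congrArg (g *ᵥ ·) e
    simpa [mulVec_mulVec, Matrix.mul_nonsing_inv g hu] using this
  obtain ⟨a, b, rfl⟩ : ∃ a b, v = Sum.elim a b := ⟨_, _, (Sum.elim_comp_inl_inr v).symm⟩
  refine LinearMap.ext fun f => funext fun x => ?_
  rw [levi_mulVec]
  simp only [Module.End.mul_apply, mon_apply, wop_apply, Pi.one_apply, one_mul, Sum.elim_inl, Sum.elim_inr]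
  change ψ (b ⬝ᵥ g⁻¹ *ᵥ x + 2⁻¹ * (a ⬝ᵥ b)) * f (g⁻¹ *ᵥ x + a) =
    ψ ((g⁻¹ᵀ *ᵥ b) ⬝ᵥ x + 2⁻¹ * ((g *ᵥ a) ⬝ᵥ g⁻¹ᵀ *ᵥ b)) * f (g⁻¹ *ᵥ (x + g *ᵥ a))
  congr 2
  · rw [dotProduct_comm (g⁻¹ᵀ *ᵥ b) x, dotProduct_mulVec x, vecMul_transpose, dotProduct_mulVec (g *ᵥ a),
      vecMul_transpose, mulVec_mulVec, Matrix.nonsing_inv_mul g hu, one_mulVec, dotProduct_comm (g⁻¹ *ᵥ x)]
  · rw [mulVec_add, mulVec_mulVec, Matrix.nonsing_inv_mul g hu, one_mulVec]

theorem kap_congr (g : Matrix (Fin n) (Fin n) F) (hg : g.det ≠ 0) (X : Matrix (Fin n) (Fin n) F) :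
    kap ψ hψ h2 (gᵀ * X * g) = kap ψ hψ h2 X := by
  obtain ⟨l, hl0, hl⟩ := levi_smul ψ hψ h2 g hg
  have hX : (X + Xᵀ)ᵀ = X + Xᵀ := by rw [transpose_add, transpose_transpose]; exact add_comm _ _
  have e : gᵀ * X * g + (gᵀ * X * g)ᵀ = gᵀ * (X + Xᵀ) * g := by
    rw [Matrix.mul_add, Matrix.add_mul, transpose_mul, transpose_mul, transpose_transpose, Matrix.mul_assoc gᵀ Xᵀ]
  have hS' : (gᵀ * (X + Xᵀ) * g)ᵀ = gᵀ * (X + Xᵀ) * g := (isSymm_congr hX g).eq
  have h := congrArg (fun T => wR ψ hψ h2 T (fun _ => 1) 0) (levi_low g hg (X + Xᵀ) hX hS')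
  simp only [map_mul, Module.End.mul_apply, low_eq_kap ψ hψ h2 X _ hX rfl, low_eq_kap ψ hψ h2 _ _ hS' e, hl,
    LinearMap.smul_apply, map_smul, Pi.smul_apply, mon_apply] at h
  simp [lowφ, hl0] at h
  exact mul_left_cancel₀ hl0 (by linear_combination -h)

theorem kap_eq_one (hn : 2 ≤ n) (X : Matrix (Fin n) (Fin n) F) : kap ψ hψ h2 X = 1 := by
  classical
  have h2' := two_ne h2
  have hne : ∀ X : Matrix (Fin n) (Fin n) F, kap ψ hψ h2 X ≠ 0 := fun X h => by
    have := kap_add ψ hψ h2 X (-X)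
    rw [add_neg_cancel, kap_zero, h, zero_mul] at this
    exact one_ne_zero this
  have key : ∀ i j : Fin n, i ≠ j → ∀ a c : F,
      kap ψ hψ h2 (single i i (a * (c * c))) * kap ψ hψ h2 (single i j (a * c) + single j i (a * c)) = 1 := by
    intro i j hij a c
    have hd : (transvection j i c).det ≠ 0 := by rw [det_transvection_of_ne j i (Ne.symm hij)]; exact one_ne_zero
    have h := kap_congr ψ hψ h2 _ hd (single j j a)
    have e : (transvection j i c)ᵀ * single j j a * transvection j i c =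
        (single i i (a * (c * c)) + (single i j (a * c) + single j i (a * c))) + single j j a := by
      simp only [transvection, transpose_add, transpose_one, transpose_single, Matrix.add_mul, Matrix.mul_add,
        Matrix.one_mul, Matrix.mul_one, Matrix.single_mul_single_same]
      rw [mul_comm c a, mul_assoc]
      abel
    rw [e, kap_add, kap_add] at h
    exact mul_right_cancel₀ (hne (single j j a)) (by rw [h, one_mul])
  have hoff : ∀ i j : Fin n, i ≠ j → ∀ a : F, kap ψ hψ h2 (single i j a + single j i a) *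
      kap ψ hψ h2 (single i j (-a) + single j i (-a)) = 1 := fun i j _ a => by
    rw [← kap_add, show single i j a + single j i a + (single i j (-a) + single j i (-a)) = 0 by
      rw [add_add_add_comm, ← single_add, ← single_add, add_neg_cancel, single_zero, single_zero, add_zero], kap_zero]
  have hdiag : ∀ (i : Fin n) (a : F), kap ψ hψ h2 (single i i a) = 1 := by
    intro i a
    obtain ⟨j, hj⟩ : ∃ j : Fin n, i ≠ j := by
      by_cases hi : i.val = 0
      · exact ⟨⟨1, by omega⟩, fun e => by rw [e] at hi; exact one_ne_zero hi⟩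
      · exact ⟨⟨0, by omega⟩, fun e => hi (by rw [e])⟩
    have h1 := key i j hj (a / 2) 1
    have h1' := key i j hj (a / 2) (-1)
    rw [mul_neg, mul_one, neg_neg, mul_one, mul_neg, mul_one] at h1'
    rw [mul_one, mul_one] at h1
    rw [show a = a / 2 + a / 2 by field_simp; ring, single_add, kap_add]
    have h3 := hoff i j hj (a / 2)
    linear_combination (kap ψ hψ h2 (single i i (a / 2)) * kap ψ hψ h2 (single i j (-(a / 2)) + single j i (-(a / 2)))) * h1 +
      h1' - (kap ψ hψ h2 (single i i (a / 2)) * kap ψ hψ h2 (single i i (a / 2))) * h3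
  induction X using Matrix.induction_on' with
  | h_zero => exact kap_zero ψ hψ h2
  | h_add p q hp hq => rw [kap_add, hp, hq, mul_one]
  | h_std_basis i j a =>
    by_cases hij : i = j
    · subst hij; exact hdiag i a
    · have h1 := key i j hij (a / 2) 1
      rw [mul_one, mul_one, hdiag, one_mul] at h1
      have e : kap ψ hψ h2 (single i j a) = kap ψ hψ h2 (single i j (a / 2) + single j i (a / 2)) := by
        rw [kap, kap]
        refine congrArg (fun g => wR ψ hψ h2 g (fun _ => 1) 0) (low_congr ?_ _ _)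
        rw [transpose_add, transpose_single, transpose_single, transpose_single]
        rw [show (single i j (a / 2) + single j i (a / 2)) + (single j i (a / 2) + single i j (a / 2)) =
          (single i j (a / 2) + single i j (a / 2)) + (single j i (a / 2) + single j i (a / 2)) by abel,
          ← single_add, ← single_add, show a / 2 + a / 2 = a by field_simp; ring]
      rw [e, h1]

/-- Lower unipotent elements act by multiplication. -/
theorem wR_low (hn : 2 ≤ n) (S : Matrix (Fin n) (Fin n) F) (hS : Sᵀ = S) :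
    wR ψ hψ h2 (low S hS) = mon id (lowφ ψ S) := by
  have := low_eq_kap ψ hψ h2 ((2 : F)⁻¹ • S) S hS (by
    rw [transpose_smul, hS, ← add_smul, show (2 : F)⁻¹ + 2⁻¹ = 1 by have := two_ne h2; field_simp; norm_num, one_smul])
  rwa [kap_eq_one ψ hψ h2 hn, one_smul] at this

/-! ### Sign changes -/

theorem negOn_smul (s : Finset (Fin n)) :
    ∃ k : ℂ, k * k = 1 ∧ wR ψ hψ h2 (negOn s) =
      k • mon (fun x i => (if i ∈ s then -1 else 1) * x i) 1 := by
  set e : (Fin n → F) → (Fin n → F) := fun x i => (if i ∈ s then -1 else 1) * x i with he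
  have hee : Function.Involutive e := fun x => funext fun i => by simp only [he]; split <;> ring
  obtain ⟨k, -, hk⟩ := wR_eq_smul ψ hψ h2 (g := negOn s) (isUnit_mon hee.bijective (φ := 1) fun _ => one_ne_zero)
    fun v => by
    obtain ⟨a, b, rfl⟩ : ∃ a b, v = Sum.elim a b := ⟨_, _, (Sum.elim_comp_inl_inr v).symm⟩
    refine LinearMap.ext fun f => funext fun x => ?_
    rw [negOn_mulVec]
    simp only [Module.End.mul_apply, mon_apply, wop_apply, Pi.one_apply, one_mul, Sum.elim_inl, Sum.elim_inr, he]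
    congr 2
    · simp only [dotProduct, Function.comp_apply]
      congr 1
      · exact Finset.sum_congr rfl fun i _ => by split <;> ring
      · congr 1
        exact Finset.sum_congr rfl fun i _ => by split <;> ring
    · funext i
      simp only [Pi.add_apply, Function.comp_apply]
      split <;> ring
  refine ⟨k, ?_, hk⟩
  have hsq : negOn (F := F) s * negOn s = 1 := sp_ext_elim fun a b => by
    rw [sp_mul_mulVec, negOn_mulVec, negOn_mulVec, sp_one_mulVec]
    congr 1 <;> funext i <;> split <;> ring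
  have h := congrArg (fun T => wR ψ hψ h2 T (fun _ => 1) 0) hsq
  simpa [hk, mon_apply] using h

/-! ### Elements fixing coordinates -/

theorem wop_inr_apply (b : Fin n → F) (f : Fun[n]) (x : Fin n → F) :
    wop ψ (Sum.elim 0 b) f x = ψ (b ⬝ᵥ x) * f x := by
  rw [wop_apply]
  simp only [Sum.elim_inl, Sum.elim_inr, Pi.zero_apply]
  rw [show (fun _ : Fin n => (0 : F)) = 0 from rfl, add_zero, zero_dotProduct, mul_zero, add_zero]

/-- An element fixing the dual of a coordinate commutes with functions of that coordinate. -/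
theorem wR_slice {g : G[n]} {i : Fin n} (hg : ∀ t : F, g.1 *ᵥ Sum.elim (0 : Fin n → F) (Pi.single i t) = Sum.elim (0 : Fin n → F) (Pi.single i t))
    (χ : F → ℂ) (f : Fun[n]) :
    wR ψ hψ h2 g (fun x => χ (x i) * f x) = fun x => χ (x i) * wR ψ hψ h2 g f x := by
  classical
  have hq : (Fintype.card F : ℂ) ≠ 0 := Nat.cast_ne_zero.2 Fintype.card_ne_zero
  have hcom : ∀ (t : F) (f : Fun[n]), wR ψ hψ h2 g (fun x => ψ (t * x i) * f x) =
      fun x => ψ (t * x i) * wR ψ hψ h2 g f x := fun t f => by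
    have := LinearMap.congr_fun (wR_inter ψ hψ h2 g (Sum.elim 0 (Pi.single i t))) f
    rw [hg, Module.End.mul_apply, Module.End.mul_apply] at this
    have e : ∀ f : Fun[n], wop ψ (Sum.elim 0 (Pi.single i t)) f = fun x => ψ (t * x i) * f x := fun f => funext fun x => by
      rw [wop_inr_apply, single_dotProduct]
    rwa [e, e] at this
  set c : F → ℂ := fun t => (Fintype.card F : ℂ)⁻¹ * ∑ a, χ a * ψ (-(t * a)) with hc
  have hexp : ∀ z : F, χ z = ∑ t, c t * ψ (t * z) := fun z => by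
    simp only [hc, mul_assoc, ← Finset.mul_sum, Finset.sum_mul]
    rw [Finset.sum_comm]
    have : ∀ a, ∑ t, χ a * (ψ (-(t * a)) * ψ (t * z)) = χ a * if z - a = 0 then (Fintype.card F : ℂ) else 0 :=
      fun a => by
        rw [← Finset.mul_sum]
        congr 1
        have h' := AddChar.sum_mulShift (z - a) hψ
        push_cast at h'
        rw [← h']
        refine Finset.sum_congr rfl fun t _ => ?_
        rw [← AddChar.map_add_eq_mul]
        ring_nf
    rw [Finset.sum_congr rfl fun a _ => this a, Finset.sum_eq_single z]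
    · rw [sub_self, if_pos rfl]; field_simp
    · intro a _ ha; rw [if_neg (sub_ne_zero.2 (Ne.symm ha)), mul_zero]
    · simp
  have e : (fun x : Fin n → F => χ (x i) * f x) = ∑ t, c t • fun x => ψ (t * x i) * f x := funext fun x => by
    rw [hexp, Finset.sum_mul, Finset.sum_apply]
    exact Finset.sum_congr rfl fun t _ => by simp [mul_assoc]
  rw [e, map_sum]
  funext x
  rw [Finset.sum_apply, hexp, Finset.sum_mul]
  refine Finset.sum_congr rfl fun t _ => ?_
  rw [map_smul, hcom, Pi.smul_apply, smul_eq_mul]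
  simp only [hc]
  ring

/-! ### The spectrum -/

theorem low_trace (S : Matrix (Fin n) (Fin n) F) (x : Fin n → F) :
    lowφ ψ S x = ψ ((S * ((-(2 : F)⁻¹) • vecMulVec x x)).trace) := by
  rw [trace_mul_vecMulVec, lowφ]

theorem rankOne_wR (hn : 2 ≤ n) : RankOne ψ (wR ψ hψ h2 (n := n)) := by
  intro B hB hne
  obtain ⟨f, hf, hf0⟩ := Submodule.exists_mem_ne_zero_of_ne_bot hne
  obtain ⟨x, hx⟩ := Function.ne_iff.1 hf0
  refine ⟨-(2 : F)⁻¹, x, eq_of_char ψ hψ h2 hB (by rw [transpose_smul, transpose_vecMulVec]) fun S hS => ?_⟩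
  have h := congrFun (hf S hS) x
  rw [wR_low ψ hψ h2 hn, mon_apply, id, low_trace, Pi.smul_apply, smul_eq_mul] at h
  exact (mul_right_cancel₀ hx h).symm

variable {m : ℕ}

theorem wR_lo (hm : 1 ≤ m) (t : F) (f : (Fin (m + 1) → F) → ℂ) (x : Fin (m + 1) → F) :
    wR ψ hψ h2 (iSL 0 (lo t)) f x = ψ (t * (-(2 : F)⁻¹ * (x 0 * x 0))) * f x := by
  rw [iSL_lo, wR_low ψ hψ h2 (by omega), mon_apply, id, lowφ]
  congr 2
  simp [smul_mulVec, single_mulVec, dotProduct, Function.update_apply]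
  ring

theorem lsh_smul (y : Fin m → F) :
    ∃ k : ℂ, k ≠ 0 ∧ wR ψ hψ h2 (lsh y) = k • mon (fun x => x - x 0 • Fin.cons 0 y) 1 := by
  refine wR_eq_smul ψ hψ h2 (isUnit_mon ?_ fun x => one_ne_zero) fun v => ?_
  · refine Finite.injective_iff_bijective.1 fun a b e => ?_
    have h0 : a 0 = b 0 := by simpa using congrFun e 0
    simpa [h0] using e
  obtain ⟨a, b, rfl⟩ : ∃ a b, v = Sum.elim a b := ⟨_, _, (Sum.elim_comp_inl_inr v).symm⟩
  refine LinearMap.ext fun f => funext fun x => ?_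
  rw [lsh_mulVec]
  simp only [Module.End.mul_apply, mon_apply, wop_apply, Pi.one_apply, one_mul, Sum.elim_inl, Sum.elim_inr]
  congr 2
  · simp only [dotProduct, Fin.sum_univ_succ, Pi.add_apply, Pi.sub_apply, Pi.smul_apply, Function.comp_apply,
      Fin.cons_zero, Fin.cons_succ, Pi.single_eq_same, ne_eq, Fin.succ_ne_zero, not_false_eq_true,
      Pi.single_eq_of_ne, smul_eq_mul, mul_zero, add_zero, sub_zero, zero_mul, zero_add]
    have e1 : ∑ i : Fin m, b i.succ * (x i.succ - x 0 * y i) =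
        ∑ i : Fin m, b i.succ * x i.succ - x 0 * ∑ i : Fin m, y i * b i.succ := by
      rw [Finset.mul_sum, ← Finset.sum_sub_distrib]
      exact Finset.sum_congr rfl fun i _ => by ring
    have e2 : ∑ i : Fin m, (a i.succ + a 0 * y i) * b i.succ =
        ∑ i : Fin m, a i.succ * b i.succ + a 0 * ∑ i : Fin m, y i * b i.succ := by
      rw [Finset.mul_sum, ← Finset.sum_add_distrib]
      exact Finset.sum_congr rfl fun i _ => by ring
    rw [e1, e2]
    ring
  · funext i
    refine Fin.cases ?_ (fun i => ?_) i <;>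
      simp [Pi.add_apply, Pi.sub_apply, Pi.smul_apply, Function.comp_apply]
    ring

theorem lsh_mul (y z : Fin m → F) : lsh y * lsh z = lsh (y + z) := sp_ext_elim fun a b => by
  rw [sp_mul_mulVec, lsh_mulVec, lsh_mulVec, lsh_mulVec]
  congr 1
  · funext i; refine Fin.cases ?_ (fun i => ?_) i <;> simp; ring
  · funext i
    refine Fin.cases ?_ (fun i => ?_) i <;>
      simp [dotProduct, Fin.sum_univ_succ, Fin.succ_ne_zero, add_mul, Finset.sum_add_distrib]
    ring

/-- Shears act by substitution. -/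
theorem wR_lsh (y : Fin m → F) :
    wR ψ hψ h2 (lsh y) = mon (fun x => x - x 0 • Fin.cons 0 y) 1 := by
  classical
  have h2' := two_ne h2
  obtain ⟨k, hk0, hk⟩ := lsh_smul ψ hψ h2 y
  obtain ⟨k', -, hk'⟩ := lsh_smul ψ hψ h2 (y + y)
  have e1 : k' = k * k := by
    have := congrArg (fun T => wR ψ hψ h2 T (fun _ => 1) 0) (lsh_mul y y)
    simpa [hk, hk', mon_apply, eq_comm] using this
  have htr : ∀ z : Fin m → F, LinearMap.trace ℂ _ (mon (fun x : Fin (m + 1) → F => x - x 0 • Fin.cons 0 z) 1) =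
      ((Finset.univ.filter fun x : Fin (m + 1) → F => x 0 • (Fin.cons 0 z : Fin (m + 1) → F) = 0).card : ℂ) := by
    intro z
    rw [LinearMap.trace_eq_matrix_trace ℂ (Pi.basisFun ℂ (Fin (m + 1) → F)), Matrix.trace, Finset.natCast_card_filter]
    refine Finset.sum_congr rfl fun x _ => ?_
    simp [LinearMap.toMatrix_apply, mon_apply, Pi.single_apply]
  have hfix : ∀ x : Fin (m + 1) → F, x 0 • (Fin.cons 0 (y + y) : Fin (m + 1) → F) = 0 ↔
      x 0 • (Fin.cons 0 y : Fin (m + 1) → F) = 0 := fun x => by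
    rw [show (Fin.cons 0 (y + y) : Fin (m + 1) → F) = (2 : F) • Fin.cons 0 y from
      funext fun i => Fin.cases (by simp) (fun i => by simp; ring) i, smul_comm, smul_eq_zero]
    simp [h2']
  have hc : LinearMap.trace ℂ _ (wR ψ hψ h2 (lsh (y + y))) = LinearMap.trace ℂ _ (wR ψ hψ h2 (lsh y)) := by
    have h12 : (2 : F)⁻¹ ≠ 0 := inv_ne_zero h2'
    have hd := dia_lsh (2 : F)⁻¹ h12 y
    rw [inv_inv, two_smul] at hd
    rw [eq_mul_inv_iff_mul_eq.2 hd.symm]
    exact Representation.char_conj _ _ _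
  rw [hk, hk', map_smul, map_smul, htr, htr, Finset.filter_congr fun x _ => hfix x, smul_eq_mul, smul_eq_mul, e1]
    at hc
  have hN : ((Finset.univ.filter fun x : Fin (m + 1) → F => x 0 • (Fin.cons 0 y : Fin (m + 1) → F) = 0).card : ℂ) ≠ 0 :=
    Nat.cast_ne_zero.2 (Finset.card_ne_zero.2 ⟨0, by simp⟩)
  have hk1 : k = 1 := by
    have := mul_right_cancel₀ hN hc
    exact mul_right_cancel₀ hk0 (by rw [this, one_mul])
  rw [hk, hk1, one_smul]

/-- The Weil representation has no fixed vectors. -/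
theorem fixed_eq_zero (hn : 2 ≤ n) {f : Fun[n]} (hf : ∀ g, wR ψ hψ h2 g f = f) : f = 0 := by
  classical
  by_contra hne
  have hsupp : ∀ x, x ≠ 0 → f x = 0 := fun x hx => by
    obtain ⟨j, hj⟩ := Function.ne_iff.1 hx
    by_contra hfx
    apply hψ (show -(2 : F)⁻¹ * (x j * x j) ≠ 0 from
      mul_ne_zero (neg_ne_zero.2 (inv_ne_zero (two_ne h2))) (mul_ne_zero hj hj))
    ext t
    have h := congrFun (hf (low (t • single j j 1) (by simp))) x
    rw [wR_low ψ hψ h2 hn, mon_apply, id, lowφ] at h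
    have h' : ψ (-(2 : F)⁻¹ * (x ⬝ᵥ (t • single j j 1) *ᵥ x)) = 1 := mul_right_cancel₀ hfx (by rw [h, one_mul])
    show ψ (-(2 : F)⁻¹ * (x j * x j) * t) = (1 : AddChar F ℂ) t
    rw [AddChar.one_apply, ← h']
    congr 1
    simp [smul_mulVec, single_mulVec, dotProduct, Function.update_apply]
    ring
  set i₀ : Fin n := ⟨0, by omega⟩
  set g : G[n] := iSL i₀ (hi 1)
  set T := wR ψ hψ h2 g
  have hf0 : f 0 ≠ 0 := fun h => hne (funext fun x => by
    by_cases hx : x = 0
    · subst hx; exact h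
    · exact hsupp x hx)
  have hfd : f = f 0 • Pi.single 0 1 := funext fun x => by
    by_cases hx : x = 0
    · subst hx; simp
    · simp [hx, hsupp x hx]
  have hTd : T (Pi.single 0 1) = Pi.single 0 1 := by
    have := hf g
    rw [hfd, map_smul] at this
    exact smul_right_injective _ hf0 this
  have hgfix : ∀ a : Fin n → F, g.1 *ᵥ Sum.elim a 0 = Sum.elim a 0 := fun a => by
    rw [iSL_mulVec]
    congr 1 <;> funext i <;> simp [hi]
  have hshift : ∀ a, wop ψ (Sum.elim (-a) 0) (Pi.single 0 1) = (Pi.single a 1 : Fun[n]) := fun a => funext fun x => by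
    rw [wop_apply]
    simp only [Sum.elim_inl, Sum.elim_inr, Pi.zero_apply]
    rw [show (fun _ : Fin n => (0 : F)) = 0 from rfl, zero_dotProduct, dotProduct_zero, mul_zero, add_zero,
      AddChar.map_zero_eq_one, one_mul, show (fun i => (-a) i) = -a from rfl, Pi.single_apply, Pi.single_apply]
    exact if_congr (by rw [← sub_eq_add_neg, sub_eq_zero]) rfl rfl
  have hT1 : T = 1 := (Pi.basisFun ℂ (Fin n → F)).ext fun a => by
    rw [Pi.basisFun_apply, Module.End.one_apply, ← hshift a, ← Module.End.mul_apply, wR_inter, hgfix,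
      Module.End.mul_apply, hTd]
  have hinj := (CfsgLib.Classical.WeilSp.wop_linearIndependent ψ hψ h2 (n := n)).injective
  have h := wR_inter ψ hψ h2 g (Sum.elim 0 (Pi.single i₀ 1))
  rw [show wR ψ hψ h2 g = 1 from hT1, one_mul, mul_one] at h
  have := congrFun (hinj h) (Sum.inl i₀)
  rw [iSL_mulVec] at this
  simp [hi] at this

end CfsgLib.Char.SpWeil
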