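/-
The parity pieces of the Weil representation are irreducible.
-/
import Cfsg.Agent.Lib.Char.SpWeil.Model
import Cfsg.Agent.Lib.Classical.WeilSp.Bound

set_option autoImplicit false

namespace CfsgLib.Char.SpWeil

open Matrix Module
open CfsgLib.Classical.WeilSp (parity parSpace weilOp weilOp_spec preserve mem_parSpace finrank_parSpace)

variable {F : Type*} [Field F] [Fintype F] {n : ℕ}

local notation "G[" n "]" => Matrix.symplecticGroup (Fin n) F
local notation "Fun[" n "]" => ((Fin n → F) → ℂ)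

variable (ψ : AddChar F ℂ) (hψ : ψ.IsPrimitive) (h2 : ringChar F ≠ 2)

theorem wR_parity (g : G[n]) : wR ψ hψ h2 g * parity F n = parity F n * wR ψ hψ h2 g :=
  (weilOp_spec ψ hψ h2 g).2.2.choose

/-- A parity piece of the Weil representation. -/
noncomputable def parRep (ε : ℂ) : Representation ℂ (G[n]) ↥(parSpace F n ε) where
  toFun g := (wR ψ hψ h2 g).restrict (preserve (wR_parity ψ hψ h2 g) ε)
  map_one' := LinearMap.ext fun f => Subtype.ext (by simp [LinearMap.restrict_coe_apply])
  map_mul' g h := LinearMap.ext fun f => Subtype.ext (by simp [LinearMap.restrict_coe_apply, map_mul])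

theorem parRep_coe (ε : ℂ) (g : G[n]) (f : ↥(parSpace F n ε)) :
    (parRep ψ hψ h2 ε g f : Fun[n]) = wR ψ hψ h2 g f := rfl

include h2 in
theorem finrank_pos_neg (hn : 2 ≤ n) : 0 < finrank ℂ ↥(parSpace F n (-1)) := by
  have h := (finrank_parSpace (F := F) (n := n) h2).2
  have : 2 * 2 ≤ Fintype.card F ^ n :=
    le_trans (by norm_num) (Nat.pow_le_pow_left Fintype.one_lt_card n |>.trans' (Nat.pow_le_pow_right (by norm_num) hn))
  omega

theorem parRep_irreducible (hn : 2 ≤ n) (h3 : 3 ≤ Fintype.card F) {ε : ℂ} (hε : ε = 1 ∨ ε = -1) :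
    (parRep ψ hψ h2 (n := n) ε).IsIrreducible := by
  classical
  haveI : Finite (G[n]) := Finite.of_injective (fun X => (X.1 : Matrix _ _ F)) Subtype.val_injective
  set ρ := parRep ψ hψ h2 (n := n) ε with hρ
  obtain ⟨hp, hm⟩ := finrank_parSpace (F := F) (n := n) h2
  have hpos := finrank_pos_neg (F := F) h2 hn
  have hlt : ∀ S : Subrepresentation ρ, S ≠ ⊥ → finrank ℂ ↥(parSpace F n (-1)) ≤ finrank ℂ S.toSubmodule := by
    intro S hS
    by_contra hlt
    apply hS
    apply Subrepresentation.toSubmodule_injective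
    show S.toSubmodule = ⊥
    have htriv : ∀ g, S.toRepresentation g = 1 := by
      by_contra hne
      push Not at hne
      have := CfsgLib.Classical.WeilSp.degree_bound hn h2 h3 (V := ↥S.toSubmodule) S.toRepresentation hne
      omega
    refine (Submodule.eq_bot_iff _).2 fun f hf => ?_
    apply Subtype.ext
    refine fixed_eq_zero ψ hψ h2 hn fun g => ?_
    have := congrArg Subtype.val (LinearMap.congr_fun (htriv g) ⟨f, hf⟩)
    exact congrArg Subtype.val this
  have hpe : finrank ℂ ↥(parSpace F n ε) ≤ finrank ℂ ↥(parSpace F n (-1)) + 1 ∧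
      0 < finrank ℂ ↥(parSpace F n ε) := by
    rcases hε with rfl | rfl <;> omega
  have hall : ∀ S : Subrepresentation ρ, S = ⊥ ∨ S = ⊤ := by
    intro S
    by_contra h
    push Not at h
    haveI := CfsgLib.Char.complemented_subrep ρ
    obtain ⟨T, hST⟩ := exists_isCompl S
    have hT : T ≠ ⊥ := fun e => h.2 (by subst e; exact eq_top_of_isCompl_bot hST)
    have h1 := hlt S h.1
    have h1' := hlt T hT
    have := CfsgLib.Char.finrank_compl hST
    have h4 : 4 < Fintype.card F ^ n :=
      lt_of_lt_of_le (by norm_num : 4 < 3 ^ 2) ((Nat.pow_le_pow_left h3 2).trans (Nat.pow_le_pow_right (by omega) hn))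
    omega
  have hne : (⊥ : Subrepresentation ρ) ≠ ⊤ := fun e => by
    have e' : (⊥ : Submodule ℂ ↥(parSpace F n ε)) = ⊤ := congrArg Subrepresentation.toSubmodule e
    have h' : finrank ℂ ↥(⊥ : Submodule ℂ ↥(parSpace F n ε)) = finrank ℂ ↥(⊤ : Submodule ℂ ↥(parSpace F n ε)) := by
      rw [e']
    rw [finrank_bot, finrank_top] at h'
    omega
  haveI : Nontrivial (Subrepresentation ρ) := ⟨⟨⊥, ⊤, hne⟩⟩
  exact ⟨hall⟩

/-- The eigenspaces for a shifted character. -/
theorem eig_mulShift {V : Type*} [AddCommGroup V] [Module ℂ V] (σ : Representation ℂ (G[n]) V) (c : F)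
    (B : Matrix (Fin n) (Fin n) F) : eig (ψ.mulShift c) σ B = eig ψ σ (c • B) := by
  ext v
  simp only [mem_eig, AddChar.mulShift_apply, Matrix.mul_smul, trace_smul, smul_eq_mul]

theorem rankOne_mulShift {V : Type*} [AddCommGroup V] [Module ℂ V] {σ : Representation ℂ (G[n]) V}
    (h : RankOne ψ σ) {c : F} (hc : c ≠ 0) : RankOne (ψ.mulShift c) σ := by
  intro B hB hne
  rw [eig_mulShift] at hne
  obtain ⟨d, u, hdu⟩ := h (c • B) (by rw [transpose_smul, hB]) hne
  exact ⟨c⁻¹ * d, u, by rw [mul_smul, ← hdu, inv_smul_smul₀ hc]⟩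

include hψ in
theorem mulShift_primitive {c : F} (hc : c ≠ 0) : (ψ.mulShift c).IsPrimitive := fun a ha => by
  rw [AddChar.mulShift_mulShift]
  exact hψ (mul_ne_zero hc ha)

end CfsgLib.Char.SpWeil
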