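/-
Intertwiners from the Weil representation on a slice.
-/
import Cfsg.Agent.Lib.Char.SpWeil.Model
import Cfsg.Agent.Lib.Char.SpWeil.Alg

set_option autoImplicit false

namespace CfsgLib.Char.SpWeil

open Matrix CfsgLib.Sp

variable {F : Type*} [Field F] [Fintype F] {m : ℕ} {V : Type*} [AddCommGroup V] [Module ℂ V]

local notation "G[" n "]" => Matrix.symplecticGroup (Fin n) F
local notation "Fun[" n "]" => ((Fin n → F) → ℂ)

variable (ψ : AddChar F ℂ) (hψ : ψ.IsPrimitive) (h2 : ringChar F ≠ 2) (σ : Representation ℂ (Matrix.symplecticGroup (Fin (m + 1)) F) V)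

/-- The base eigenspace. -/
abbrev baseEig : Submodule ℂ V := eig ψ σ ((-(2 : F)⁻¹) • vecMulVec (Pi.single 0 1) (Pi.single 0 1))

/-- The intertwiner attached to a vector. -/
noncomputable def tu (u : V) : (Fun[m + 1]) →ₗ[ℂ] V :=
  ∑ y : Fin m → F, (LinearMap.proj (Fin.cons 1 y : Fin (m + 1) → F)).smulRight (σ (lsh y) u)

theorem tu_apply (u : V) (f : Fun[m + 1]) : tu σ u f = ∑ y : Fin m → F, f (Fin.cons 1 y) • σ (lsh y) u := by
  simp [tu, LinearMap.sum_apply]

omit [Fintype F] in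
theorem single_add_cons (y : Fin m → F) :
    (Pi.single 0 1 : Fin (m + 1) → F) + (1 : F) • Fin.cons 0 y = Fin.cons 1 y := by
  funext i
  refine Fin.cases ?_ (fun i => ?_) i <;> simp [Fin.succ_ne_zero]

omit [Fintype F] in
theorem lsh_base {u : V} (hu : u ∈ baseEig ψ σ) (y : Fin m → F) :
    σ (lsh y) u ∈ eig ψ σ ((-(2 : F)⁻¹) • vecMulVec (Fin.cons 1 y) (Fin.cons 1 y)) := by
  have h := lsh_mem_eig ψ σ hu y
  rwa [shear_congr, Pi.single_eq_same, single_add_cons] at h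

theorem tu_low (hm : 1 ≤ m) {u : V} (hu : u ∈ baseEig ψ σ) (S : Matrix (Fin (m + 1)) (Fin (m + 1)) F) (hS : Sᵀ = S)
    (f : Fun[m + 1]) : tu σ u (wR ψ hψ h2 (low S hS) f) = σ (low S hS) (tu σ u f) := by
  rw [tu_apply, tu_apply, map_sum]
  refine Finset.sum_congr rfl fun y _ => ?_
  rw [map_smul, lsh_base ψ σ hu y S hS, wR_low ψ hψ h2 (by omega), mon_apply, id, low_trace, smul_smul, mul_comm]

theorem tu_lsh (u : V) (z : Fin m → F) (f : Fun[m + 1]) :
    tu σ u (wR ψ hψ h2 (lsh z) f) = σ (lsh z) (tu σ u f) := by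
  rw [tu_apply, tu_apply, map_sum]
  refine (Fintype.sum_equiv (Equiv.addLeft z) _ _ fun y => ?_).symm
  rw [map_smul, ← Module.End.mul_apply, ← map_mul, lsh_mul, wR_lsh ψ hψ h2, mon_apply, Pi.one_apply, one_mul,
    Equiv.coe_addLeft]
  congr 2
  funext i
  refine Fin.cases ?_ (fun i => ?_) i <;> simp

theorem tu_single (hu : V) (y : Fin m → F) [DecidableEq F] :
    tu σ hu (Pi.single (Fin.cons 1 y) 1) = σ (lsh y) hu := by
  rw [tu_apply, Finset.sum_eq_single y]
  · simp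
  · intro z _ hz
    rw [Pi.single_eq_of_ne (fun e => hz (funext fun i => by simpa using congrFun e i.succ)), zero_smul]
  · simp

theorem tu_mem_zeig {u : V} (hu : u ∈ baseEig ψ σ) (f : Fun[m + 1]) : tu σ u f ∈ zeig ψ σ (-(2 : F)⁻¹) := by
  rw [tu_apply]
  refine Submodule.sum_mem _ fun y _ => Submodule.smul_mem _ _ ?_
  have h := eig_le_zeig ψ σ _ (lsh_base ψ σ hu y)
  simpa [vecMulVec_apply] using h

theorem zeig_mem_span (hψ : ψ.IsPrimitive) (h2 : ringChar F ≠ 2) (hR : RankOne ψ σ) {v : V}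
    (hv : v ∈ zeig ψ σ (-(2 : F)⁻¹)) :
    v ∈ Submodule.span ℂ {x | ∃ u ∈ baseEig ψ σ, ∃ f, x = tu σ u f} := by
  classical
  refine Submodule.span_mono ?_ (zeig_shear ψ hψ h2 σ hR (neg_ne_zero.2 (inv_ne_zero (two_ne h2))) hv)
  rintro _ ⟨y, u, hu, rfl⟩
  exact ⟨u, hu, _, (tu_single σ u y).symm⟩

include hψ h2 in
/-- Slice maps commuting with the first row commute with the lower unipotent radical. -/
theorem slice_low (hm : 1 ≤ m) (hR : RankOne ψ σ) (Φ : (Fun[m + 1]) →ₗ[ℂ] V)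
    (hslice : ∀ f : Fun[m + 1], (∀ x, x 0 = 1 → f x = 0) → Φ f = 0)
    (hZ : ∀ t f, Φ (wR ψ hψ h2 (iSL 0 (lo t)) f) = σ (iSL 0 (lo t)) (Φ f))
    (hH : ∀ s f, Φ (wR ψ hψ h2 (hQ s) f) = σ (hQ s) (Φ f))
    (S : Matrix (Fin (m + 1)) (Fin (m + 1)) F) (hS : Sᵀ = S) (f : Fun[m + 1]) :
    Φ (wR ψ hψ h2 (low S hS) f) = σ (low S hS) (Φ f) := by
  classical
  suffices h : Φ ∘ₗ wR ψ hψ h2 (low S hS) = σ (low S hS) ∘ₗ Φ from LinearMap.congr_fun h f
  refine (Pi.basisFun ℂ (Fin (m + 1) → F)).ext fun x => ?_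
  rw [Pi.basisFun_apply, LinearMap.comp_apply, LinearMap.comp_apply]
  set d : Fun[m + 1] := Pi.single x 1 with hd
  have hev : ∀ (T : Matrix (Fin (m + 1)) (Fin (m + 1)) F) (hT : Tᵀ = T),
      wR ψ hψ h2 (low T hT) d = ψ ((T * ((-(2 : F)⁻¹) • vecMulVec x x)).trace) • d := fun T hT => funext fun z => by
    rw [wR_low ψ hψ h2 (by omega), mon_apply, id, low_trace, Pi.smul_apply, smul_eq_mul, hd, Pi.single_apply]
    split
    · next h => subst h; rfl
    · simp
  rw [hev, map_smul]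
  by_cases hx : x 0 = 1
  swap
  · rw [hslice d fun z hz => by rw [hd, Pi.single_eq_of_ne (fun e => hx (by rw [← e]; exact hz))], map_zero, smul_zero]
  set Bx := (-(2 : F)⁻¹) • vecMulVec x x with hBx
  have hz : Φ d ∈ zeig ψ σ (-(2 : F)⁻¹) := fun t => by
    rw [← hZ, iSL_lo, hev, map_smul]
    congr 2
    simp [hBx, Matrix.mul_smul, Matrix.smul_mul, trace_smul, Matrix.trace_single_mul, vecMulVec_apply, hx]
    ring
  obtain ⟨fd, hfd, hfds, hvf⟩ := zeig_decomp ψ hψ h2 σ hz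
  rw [hvf, map_sum, Finset.smul_sum]
  refine Finset.sum_congr rfl fun B _ => ?_
  by_cases hB : fd B = 0
  · rw [hB, smul_zero, map_zero]
  suffices hBB : B = Bx by rw [hfd B S hS, hBB]
  obtain ⟨hBs, hB0⟩ := hfds B hB
  -- the first row is determined
  have hrow : ∀ s : Fin m → F, ψ ((sR s * B).trace) = ψ ((sR s * Bx).trace) := by
    intro s
    have hsum : ∑ C ∈ Finset.univ.filter (fun C => fd C ≠ 0),
        (ψ ((sR s * C).trace) - ψ ((sR s * Bx).trace)) • fd C = 0 := by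
      refine (Finset.sum_subset (s₂ := Finset.univ) (Finset.subset_univ _) fun C _ hC => ?_).trans ?_
      · rw [not_not.1 fun h => hC (Finset.mem_filter.2 ⟨Finset.mem_univ _, h⟩), smul_zero]
      have e1 : σ (hQ s) (Φ d) = ∑ C, ψ ((sR s * C).trace) • fd C := by
        conv_lhs => rw [hvf]
        rw [map_sum]
        exact Finset.sum_congr rfl fun C _ => hfd C _ _
      have e2 : σ (hQ s) (Φ d) = ∑ C, ψ ((sR s * Bx).trace) • fd C := by
        rw [← Finset.smul_sum, ← hvf, ← hH, hQ, hev, map_smul]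
      simp only [sub_smul, Finset.sum_sub_distrib, ← e1, ← e2, sub_self]
    have := eq_zero_of_sum ψ σ hψ h2 _ id (fun C hC => (hfds C (Finset.mem_filter.1 hC).2).1)
      Function.injective_id.injOn (fun C => (ψ ((sR s * C).trace) - ψ ((sR s * Bx).trace)) • fd C)
      (fun C _ => Submodule.smul_mem _ _ (hfd C)) hsum B (Finset.mem_filter.2 ⟨Finset.mem_univ _, hB⟩)
    exact sub_eq_zero.1 ((smul_eq_zero.1 this).resolve_right hB)
  obtain ⟨c, w, rfl⟩ := hR B hBs (fun e => hB ((Submodule.mem_bot ℂ).1 (e ▸ hfd B)))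
  simp [vecMulVec_apply] at hB0
  have h2' := two_ne h2
  have hc : c ≠ 0 := fun e => inv_ne_zero h2' (by rw [← neg_eq_zero, ← hB0, e, zero_mul])
  have hw : ∀ i : Fin m, c * (w 0 * w i.succ) = -(2 : F)⁻¹ * x i.succ := by
    intro i
    by_contra hne
    apply hψ (show 2 * (c * (w 0 * w i.succ) - -(2 : F)⁻¹ * x i.succ) ≠ 0 from mul_ne_zero h2' (sub_ne_zero.2 hne))
    ext a
    have h := hrow (Pi.single i a)
    have e : ∀ (c : F) (v : Fin (m + 1) → F),
        (sR (Pi.single i a) * (c • vecMulVec v v)).trace = 2 * a * (c * (v 0 * v i.succ)) := fun c v => by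
      rw [trace_mul_vecMulVec, sR, add_mulVec, vecMulVec_mulVec, vecMulVec_mulVec, op_smul_eq_smul, op_smul_eq_smul,
        dotProduct_add, dotProduct_smul, dotProduct_smul, single_dotProduct, dotProduct_single, one_mul, mul_one,
        dotProduct_comm v, cons_dot, single_dotProduct, smul_eq_mul, smul_eq_mul]
      ring
    rw [hBx, e, e, hx, one_mul] at h
    show ψ (2 * (c * (w 0 * w i.succ) - -(2 : F)⁻¹ * x i.succ) * a) = (1 : AddChar F ℂ) a
    rw [AddChar.one_apply, show 2 * (c * (w 0 * w i.succ) - -(2 : F)⁻¹ * x i.succ) * a =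
      2 * a * (c * (w 0 * w i.succ)) - 2 * a * (-(2 : F)⁻¹ * x i.succ) by ring, AddChar.map_sub_eq_div, h, div_self]
    exact (ψ.val_isUnit _).ne_zero
  have hw0 : w 0 ≠ 0 := fun e => inv_ne_zero h2' (by rw [← neg_eq_zero, ← hB0, e]; ring)
  have hwx : w = w 0 • x := funext fun i => Fin.cases (by simp [hx]) (fun i => by
    refine mul_left_cancel₀ (mul_ne_zero hc hw0) ?_
    rw [Pi.smul_apply, smul_eq_mul]
    linear_combination hw i - x i.succ * hB0) i
  rw [hBx, hwx, Matrix.vecMulVec_smul, Matrix.smul_vecMulVec, smul_smul, smul_smul, ← hB0]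
  congr 1
  ring

/-- The elements through which all the intertwiners commute. -/
noncomputable def interSub : Subgroup (G[m + 1]) where
  carrier := {k | ∀ u ∈ baseEig ψ σ, ∀ f, tu σ u (wR ψ hψ h2 k f) = σ k (tu σ u f)}
  mul_mem' {a b} ha hb := fun u hu f => by
    rw [map_mul, map_mul, Module.End.mul_apply, Module.End.mul_apply, ha u hu, hb u hu]
  one_mem' := fun u _ f => by rw [map_one, map_one, Module.End.one_apply, Module.End.one_apply]
  inv_mem' {a} ha := fun u hu f => by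
    rw [eq_comm, Representation.inv_apply_eq_iff, ← ha u hu, ← Module.End.mul_apply (wR ψ hψ h2 a), ← map_mul,
      mul_inv_cancel, map_one, Module.End.one_apply]

theorem mem_interSub {k : G[m + 1]} : k ∈ interSub ψ hψ h2 σ ↔
    ∀ u ∈ baseEig ψ σ, ∀ f, tu σ u (wR ψ hψ h2 k f) = σ k (tu σ u f) := Iff.rfl

theorem hQ_mem_interSub (hm : 1 ≤ m) (s : Fin m → F) : hQ s ∈ interSub ψ hψ h2 σ :=
  fun _ hu f => tu_low ψ hψ h2 σ hm hu _ _ f

theorem lsh_mem_interSub (y : Fin m → F) : lsh y ∈ interSub ψ hψ h2 σ :=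
  fun u _ f => tu_lsh ψ hψ h2 σ u y f

theorem iSL_mem_interSub (hm : 1 ≤ m) (hR : RankOne ψ σ) (j : Fin m) (M : Matrix.SpecialLinearGroup (Fin 2) F) :
    iSL j.succ M ∈ interSub ψ hψ h2 σ := by
  suffices h : (interSub ψ hψ h2 σ).comap (iSL j.succ) = ⊤ from
    Subgroup.mem_comap.1 (h ▸ Subgroup.mem_top M)
  refine sl2_eq_top (fun t => fun u hu f => ?_) (fun t => fun u hu f => ?_)
  · rw [iSL_lo]; exact tu_low ψ hψ h2 σ hm hu _ _ f
  have hfix : ∀ t : F, (jP (F := F) (m := m)).1 *ᵥ Sum.elim (0 : Fin (m + 1) → F) (Pi.single 0 t) =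
      Sum.elim (0 : Fin (m + 1) → F) (Pi.single 0 t) := fun t => by
    rw [jP_mulVec]
    congr 1 <;> funext i <;> refine Fin.cases ?_ (fun i => ?_) i <;> simp [Fin.succ_ne_zero]
  classical
  set Φ : (Fun[m + 1]) →ₗ[ℂ] V := σ jP⁻¹ ∘ₗ tu σ u ∘ₗ wR ψ hψ h2 jP with hΦ
  have hslice : ∀ f : Fun[m + 1], (∀ x, x 0 = 1 → f x = 0) → Φ f = 0 := by
    intro f hf
    have e : f = fun x => (fun z : F => if z = 1 then (0 : ℂ) else 1) (x 0) * f x := funext fun x => by
      by_cases h : x 0 = 1 <;> simp [h, hf x]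
    rw [hΦ, LinearMap.comp_apply, LinearMap.comp_apply, e,
      wR_slice ψ hψ h2 hfix (fun z : F => if z = 1 then (0 : ℂ) else 1) f, tu_apply]
    simp
  have conj : ∀ g g' : G[m + 1], jP * g = g' * jP → g' ∈ interSub ψ hψ h2 σ → ∀ f,
      Φ (wR ψ hψ h2 g f) = σ g (Φ f) := by
    intro g g' hgg hg' f
    rw [hΦ, LinearMap.comp_apply, LinearMap.comp_apply, LinearMap.comp_apply, LinearMap.comp_apply,
      ← Module.End.mul_apply (wR ψ hψ h2 jP), ← map_mul, hgg, map_mul, Module.End.mul_apply, hg' u hu,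
      ← Module.End.mul_apply (σ jP⁻¹), ← map_mul, ← Module.End.mul_apply (σ g), ← map_mul]
    congr 2
    rw [inv_mul_eq_iff_eq_mul, ← mul_assoc, eq_mul_inv_iff_mul_eq, hgg]
  have hZ' : ∀ t, iSL 0 (lo t) ∈ interSub ψ hψ h2 σ := fun t u hu f => by
    rw [iSL_lo]; exact tu_low ψ hψ h2 σ hm hu _ _ f
  have hL := slice_low ψ hψ h2 σ hm hR Φ hslice (fun t => conj _ _ (jP_iSL_zero t) (hZ' t))
    (fun s => conj _ _ (jP_hQ s) (lsh_mem_interSub ψ hψ h2 σ s))
  have hh : iSL j.succ (hi t) = jP * iSL j.succ (lo (-t)) * jP⁻¹ := by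
    rw [eq_mul_inv_iff_mul_eq, jP_lo, neg_neg]
  have h := hL (-t • Matrix.single j.succ j.succ 1) (by simp) (wR ψ hψ h2 jP⁻¹ f)
  rw [← iSL_lo, hΦ, LinearMap.comp_apply, LinearMap.comp_apply, LinearMap.comp_apply, LinearMap.comp_apply] at h
  simp only [← Module.End.mul_apply, ← map_mul, mul_inv_cancel, map_one, Module.End.one_apply] at h
  have h' := congrArg (σ jP) h
  simp only [← Module.End.mul_apply, ← map_mul, ← mul_assoc, mul_inv_cancel, map_one, one_mul,
    Module.End.one_apply] at h'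
  rw [hh]
  exact h'

theorem negOn_mem_interSub (hm : 1 ≤ m) (hR : RankOne ψ σ) (s : Finset (Fin (m + 1))) (h0 : 0 ∉ s) :
    negOn s ∈ interSub ψ hψ h2 σ := by
  induction s using Finset.induction_on with
  | empty => rw [negOn_empty]; exact one_mem _
  | insert j s hj ih =>
    rw [negOn_insert s hj]
    refine mul_mem ?_ (ih fun h => h0 (Finset.mem_insert_of_mem h))
    obtain ⟨i, rfl⟩ := Fin.exists_succ_eq.2 (fun e : j = 0 => h0 (e ▸ Finset.mem_insert_self j s))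
    exact iSL_mem_interSub ψ hψ h2 σ hm hR i _

end CfsgLib.Char.SpWeil
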