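/-
The action of the first `SL₂` in representations with spectrum of rank one.
-/
import Cfsg.Agent.Lib.Char.SpWeil.Shear
import Cfsg.Agent.Lib.Char.SpWeil.Irr

set_option autoImplicit false

namespace CfsgLib.Char.SpWeil

open Matrix CfsgLib.Sp
open CfsgLib.Classical.WeilSp (wop wop_apply)

variable {F : Type*} [Field F] [Fintype F] {m : ℕ} {V : Type*} [AddCommGroup V] [Module ℂ V]

local notation "SL₂" => Matrix.SpecialLinearGroup (Fin 2) F

variable (ψ : AddChar F ℂ) (hψ : ψ.IsPrimitive) (h2 : ringChar F ≠ 2)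

omit [Fintype F] in
theorem zeig_mulShift (σ : Representation ℂ (Matrix.symplecticGroup (Fin (m + 1)) F) V) (c r : F) :
    zeig (ψ.mulShift c) σ r = zeig ψ σ (c * r) := by
  ext v
  simp only [mem_zeig, AddChar.mulShift_apply]
  refine forall_congr' fun t => ?_
  rw [mul_left_comm]

theorem square_class (h2 : ringChar F ≠ 2) {δ : F} (hδ : ¬ IsSquare δ) {c : F} (hc : c ≠ 0) :
    ∃ s : F, s ≠ 0 ∧ (c = s * s ∨ c = δ * (s * s)) := by
  classical
  by_cases hs : IsSquare c
  · obtain ⟨s, rfl⟩ := hs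
    exact ⟨s, fun e => hc (by rw [e, zero_mul]), Or.inl rfl⟩
  · have hδ0 : δ ≠ 0 := fun e => hδ (e ▸ IsSquare.zero)
    have h1 : quadraticChar F (c / δ) = 1 := by
      have e1 := (quadraticChar_neg_one_iff_not_isSquare (a := c)).2 hs
      have e2 := (quadraticChar_neg_one_iff_not_isSquare (a := δ)).2 hδ
      have e3 : quadraticChar F (c / δ) * quadraticChar F δ = quadraticChar F c := by
        rw [← map_mul, div_mul_cancel₀ _ hδ0]
      rw [e1, e2] at e3
      linarith
    obtain ⟨s, hs'⟩ := (quadraticChar_one_iff_isSquare (div_ne_zero hc hδ0)).1 h1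
    refine ⟨s, fun e => div_ne_zero hc hδ0 (by rw [hs', e, zero_mul]), Or.inr ?_⟩
    rw [← hs', mul_div_cancel₀ _ hδ0]

theorem neg_one_eq : iSL (0 : Fin (m + 1)) (-1 : SL₂) = negOn {0} := by
  rw [← insert_empty_eq (0 : Fin (m + 1)), negOn_insert _ (Finset.notMem_empty _), negOn_empty, mul_one]

theorem neg_one_comm {n : ℕ} (j : Fin n) (M : SL₂) : iSL j (-1 : SL₂) * iSL j M = iSL j M * iSL j (-1) := by
  rw [← map_mul, ← map_mul]
  congr 1
  apply Subtype.ext
  rw [Matrix.SpecialLinearGroup.coe_mul, Matrix.SpecialLinearGroup.coe_mul, Matrix.SpecialLinearGroup.coe_neg]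
  simp

/-- Group algebra elements killing both Weil representations kill every representation of rank one. -/
theorem kernel_zero (hm : 1 ≤ m) (σ : Representation ℂ (Matrix.symplecticGroup (Fin (m + 1)) F) V) [σ.IsIrreducible]
    (hR : RankOne ψ σ) {c₀ : F} (hc₀ : c₀ ≠ 0) {u : V} (hu : u ∈ zeig ψ σ c₀) (hu0 : u ≠ 0) {δ : F}
    (hδ : ¬ IsSquare δ) (X : MonoidAlgebra ℂ SL₂) (hX1 : aA (wR ψ hψ h2 (n := m + 1)) 0 X = 0)
    (hX2 : aA (wR (ψ.mulShift δ) (mulShift_primitive ψ hψ fun e => hδ (e ▸ IsSquare.zero)) h2 (n := m + 1)) 0 X = 0) :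
    aA σ 0 X = 0 := by
  classical
  have hδ0 : δ ≠ 0 := fun e => hδ (e ▸ IsSquare.zero)
  have h2' := two_ne h2
  set j₀ : Fin (m + 1) := (⟨0, hm⟩ : Fin m).succ with hj₀
  set p : Matrix.symplecticGroup (Fin (m + 1)) F := permEl (Equiv.swap 0 j₀) with hp
  have hp' : ∀ M : SL₂, p * iSL j₀ M = iSL 0 M * p := fun M => by
    have := permEl_iSL (Equiv.swap 0 j₀) 0 M
    rwa [Equiv.swap_apply_left] at this
  have step : ∀ (ψ' : AddChar F ℂ) (hψ' : ψ'.IsPrimitive), aA (wR ψ' hψ' h2 (n := m + 1)) 0 X = 0 →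
      RankOne ψ' σ → ∀ v ∈ zeig ψ' σ (-(2 : F)⁻¹), aA σ j₀ X v = 0 := by
    intro ψ' hψ' hX hR' v hv
    have hw : ∀ f, aA (wR ψ' hψ' h2) j₀ X f = 0 := fun f => by
      apply (Representation.apply_bijective (wR ψ' hψ' h2) p).1
      rw [map_zero, aA_inter _ _ j₀ 0 (wR ψ' hψ' h2 p) (fun M g => by
        rw [← Module.End.mul_apply, ← map_mul, hp', map_mul, Module.End.mul_apply]), hX, LinearMap.zero_apply]
    have hv' := zeig_mem_span ψ' σ hψ' h2 hR' hv
    suffices h : Submodule.span ℂ {x | ∃ u ∈ baseEig ψ' σ, ∃ f, x = tu σ u f} ≤ LinearMap.ker (aA σ j₀ X) from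
      LinearMap.mem_ker.1 (h hv')
    refine Submodule.span_le.2 ?_
    rintro _ ⟨w, hw', f, rfl⟩
    rw [SetLike.mem_coe, LinearMap.mem_ker, ← aA_inter (wR ψ' hψ' h2) σ j₀ j₀ (tu σ w) (fun M g =>
      iSL_mem_interSub ψ' hψ' h2 σ hm hR' ⟨0, hm⟩ M w hw' g), hw, map_zero]
  -- all eigenspaces
  have hkill : ∀ c : F, c ≠ 0 → ∀ v ∈ zeig ψ σ c, aA σ j₀ X v = 0 := by
    intro c hc v hv
    obtain ⟨s, hs0, hs⟩ := square_class h2 hδ (show -(2 : F) * c ≠ 0 from mul_ne_zero (neg_ne_zero.2 h2') hc)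
    have hsi := inv_ne_zero hs0
    have hv' := dia_mem_zeig ψ σ hv s⁻¹ hsi
    apply (Representation.apply_bijective σ (iSL 0 (dia s⁻¹ hsi))).1
    rw [map_zero, aA_inter σ σ j₀ j₀ (σ (iSL 0 (dia s⁻¹ hsi))) (fun M g => by
      rw [← Module.End.mul_apply, ← map_mul, iSL_comm (by rw [hj₀]; exact (Fin.succ_ne_zero _).symm), map_mul,
        Module.End.mul_apply])]
    rcases hs with hs | hs
    · refine step ψ hψ hX1 hR _ ?_
      convert hv' using 2
      field_simp
      linear_combination hs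
    · refine step _ (mulShift_primitive ψ hψ hδ0) hX2 (rankOne_mulShift ψ hR hδ0) _ ?_
      rw [zeig_mulShift]
      convert hv' using 2
      field_simp
      linear_combination hs
  -- the span of the translates
  set N : Submodule ℂ V := Submodule.span ℂ
    {x | ∃ (M : SL₂) (c : F) (_ : c ≠ 0), ∃ v ∈ zeig ψ σ c, x = σ (iSL 0 M) v} with hN
  have hgen : ∀ M : SL₂, ∀ v ∈ N, σ (iSL 0 M) v ∈ N := by
    intro M v hv
    induction hv using Submodule.span_induction with
    | mem x hx =>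
      obtain ⟨M', c, hc, w, hw, rfl⟩ := hx
      exact Submodule.subset_span ⟨M * M', c, hc, w, hw, by rw [map_mul, map_mul, Module.End.mul_apply]⟩
    | zero => rw [map_zero]; exact N.zero_mem
    | add x y _ _ hx hy => rw [map_add]; exact N.add_mem hx hy
    | smul a x _ hx => rw [map_smul]; exact N.smul_mem a hx
  have hsub : ∀ g, (∀ t : F, iSL 0 (lo t) * g = g * iSL 0 (lo t)) → (∀ w ∈ zeig ψ σ 0, σ g w = w) → ∀ v ∈ N, σ g v ∈ N := by
    intro g hcomm hfix v hv
    have hd : σ g v - v ∈ N := by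
      conv => arg 2; rw [← sum_fe ψ σ hψ h2 v, map_sum, ← Finset.sum_sub_distrib]
      refine Submodule.sum_mem _ fun r _ => ?_
      have hr := fe_mem ψ σ r v
      by_cases hr0 : r = 0
      · rw [hr0] at hr ⊢
        rw [hfix _ hr, sub_self]
        exact N.zero_mem
      · have hgr : σ g (aA σ 0 (fe ψ r) v) ∈ zeig ψ σ r := fun t => by
          rw [← Module.End.mul_apply, ← map_mul, hcomm, map_mul, Module.End.mul_apply, hr t, map_smul]
        exact N.sub_mem (Submodule.subset_span ⟨1, r, hr0, _, hgr, by rw [map_one, map_one, Module.End.one_apply]⟩)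
          (Submodule.subset_span ⟨1, r, hr0, _, hr, by rw [map_one, map_one, Module.End.one_apply]⟩)
    have := N.add_mem hd hv
    rwa [sub_add_cancel] at this
  let H : Subgroup (Matrix.symplecticGroup (Fin (m + 1)) F) :=
    { carrier := {g | (∀ v ∈ N, σ g v ∈ N) ∧ ∀ v ∈ N, σ g⁻¹ v ∈ N}
      mul_mem' := fun {a b} ha hb => ⟨fun v hv => by rw [map_mul, Module.End.mul_apply]; exact ha.1 _ (hb.1 v hv),
        fun v hv => by rw [_root_.mul_inv_rev, map_mul, Module.End.mul_apply]; exact hb.2 _ (ha.2 v hv)⟩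
      one_mem' := ⟨fun v hv => by rwa [map_one, Module.End.one_apply],
        fun v hv => by rwa [inv_one, map_one, Module.End.one_apply]⟩
      inv_mem' := fun {a} ha => ⟨ha.2, fun v hv => by rw [inv_inv]; exact ha.1 v hv⟩ }
  have htop : H = ⊤ := eq_top_of_gens H
    (fun M => ⟨hgen M, fun v hv => by rw [← map_inv]; exact hgen _ v hv⟩)
    (fun y => by
      have hs := hsub _ (fun t => iSL_zero_lo_comm_lsh t y) fun w hw => lsh_fix ψ hψ h2 σ hR hw y
      have hi : (lsh y : Matrix.symplecticGroup (Fin (m + 1)) F)⁻¹ = lsh (-y) := inv_eq_of_mul_eq_one_right (by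
        rw [lsh_mul, add_neg_cancel]
        exact sp_ext_elim fun a b => by
          rw [lsh_mulVec, sp_one_mulVec, show (Fin.cons 0 (0 : Fin m → F) : Fin (m + 1) → F) = 0 from
            funext fun i => Fin.cases rfl (fun _ => rfl) i]
          simp)
      exact ⟨hs, fun v hv => by
        rw [hi]
        exact hsub _ (fun t => iSL_zero_lo_comm_lsh t _) (fun w hw => lsh_fix ψ hψ h2 σ hR hw _) v hv⟩)
    (fun s => by
      have hi : (hQ s : Matrix.symplecticGroup (Fin (m + 1)) F)⁻¹ = hQ (-s) := inv_eq_of_mul_eq_one_right (by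
        rw [hQ, hQ, low_mul, ← low_zero]
        refine low_congr ?_ _ _
        rw [sR, sR, show (Fin.cons 0 (-s) : Fin (m + 1) → F) = -Fin.cons 0 s from
          funext fun i => Fin.cases (by simp) (fun _ => rfl) i, vecMulVec_neg, neg_vecMulVec]
        abel)
      exact ⟨hsub _ (fun t => iSL_zero_lo_comm_hQ t s) fun w hw => hQ_fix ψ hψ h2 σ hR hw s, fun v hv => by
        rw [hi]
        exact hsub _ (fun t => iSL_zero_lo_comm_hQ t _) (fun w hw => hQ_fix ψ hψ h2 σ hR hw _) v hv⟩)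
  let S : Subrepresentation σ := ⟨N, fun g v hv => (htop.symm ▸ Subgroup.mem_top g : g ∈ H).1 v hv⟩
  have hNtop : N = ⊤ := by
    rcases IsSimpleOrder.eq_bot_or_eq_top (α := Subrepresentation σ) S with h | h
    · exfalso
      apply hu0
      have e : N = ⊥ := congrArg Subrepresentation.toSubmodule h
      have : u ∈ N := Submodule.subset_span ⟨1, c₀, hc₀, u, hu, by rw [map_one, map_one, Module.End.one_apply]⟩
      rwa [e, Submodule.mem_bot] at this
    · exact congrArg Subrepresentation.toSubmodule h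
  have hj : ∀ v, aA σ j₀ X v = 0 := by
    intro v
    have hv : v ∈ N := hNtop ▸ Submodule.mem_top
    induction hv using Submodule.span_induction with
    | mem x hx =>
      obtain ⟨M, c, hc, w, hw, rfl⟩ := hx
      rw [← aA_inter σ σ j₀ j₀ (σ (iSL 0 M)) (fun M' g => by
        rw [← Module.End.mul_apply, ← map_mul, iSL_comm (by rw [hj₀]; exact (Fin.succ_ne_zero _).symm), map_mul,
          Module.End.mul_apply]), hkill c hc w hw, map_zero]
    | zero => rw [map_zero]
    | add x y _ _ hx hy => rw [map_add, hx, hy, add_zero]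
    | smul a x _ hx => rw [map_smul, hx, smul_zero]
  refine LinearMap.ext fun v => ?_
  obtain ⟨w, rfl⟩ := (Representation.apply_bijective σ p).2 v
  rw [← aA_inter σ σ j₀ 0 (σ p) (fun M g => by
    rw [← Module.End.mul_apply, ← map_mul, hp', map_mul, Module.End.mul_apply]), hj, map_zero, LinearMap.zero_apply]

/-- The projection to a parity part of an eigenspace of the lower unipotent group. -/
noncomputable def pe (η : ℂ) : MonoidAlgebra ℂ SL₂ :=
  ((2 : ℂ)⁻¹ • (.of ℂ SL₂ 1 + η • .of ℂ SL₂ (-1))) * fe ψ (-(2 : F)⁻¹)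

theorem pe_apply (σ : Representation ℂ (Matrix.symplecticGroup (Fin (m + 1)) F) V) (η : ℂ) (v : V) :
    aA σ 0 (pe ψ η) v = (2 : ℂ)⁻¹ • (aA σ 0 (fe ψ (-(2 : F)⁻¹)) v +
      η • σ (iSL 0 (-1)) (aA σ 0 (fe ψ (-(2 : F)⁻¹)) v)) := by
  rw [pe, map_mul, map_smul, map_add, map_smul, aA_of, aA_of, Module.End.mul_apply, LinearMap.smul_apply,
    LinearMap.add_apply, LinearMap.smul_apply, map_one, map_one, Module.End.one_apply]

include hψ h2 in
theorem zeig_supp (hm : 1 ≤ m) {r : F} {f : (Fin (m + 1) → F) → ℂ} (hf : f ∈ zeig ψ (wR ψ hψ h2) r)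
    {x : Fin (m + 1) → F} (hx : f x ≠ 0) : -(2 : F)⁻¹ * (x 0 * x 0) = r := by
  by_contra hne
  apply hψ (sub_ne_zero.2 hne)
  ext t
  have h := congrFun (hf t) x
  rw [wR_lo ψ hψ h2 hm, Pi.smul_apply, smul_eq_mul] at h
  show ψ ((-(2 : F)⁻¹ * (x 0 * x 0) - r) * t) = (1 : AddChar F ℂ) t
  rw [AddChar.one_apply, sub_mul, AddChar.map_sub_eq_div, mul_comm, mul_right_cancel₀ hx h, mul_comm, div_self]
  exact (ψ.val_isUnit _).ne_zero

include hψ h2 in
/-- The compressions are scalars on the Weil representation. -/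
theorem exists_kappa (hm : 1 ≤ m) (a : SL₂) (η : ℂ) (hη : η * η = 1) : ∃ κ : ℂ,
    aA (wR ψ hψ h2 (n := m + 1)) 0 (fe ψ (-(2 : F)⁻¹) * .of ℂ SL₂ a * pe ψ η - κ • pe ψ η) = 0 := by
  classical
  have h2' := two_ne h2
  set ω := wR ψ hψ h2 (n := m + 1) with hω
  obtain ⟨k0, hk0, hk⟩ := negOn_smul ψ hψ h2 ({0} : Finset (Fin (m + 1)))
  set η' : ℂ := η * k0 with hη'
  have hη'' : η' * η' = 1 := by rw [hη']; linear_combination k0 * k0 * hη + hk0
  let fl : (Fin (m + 1) → F) → (Fin (m + 1) → F) := fun x i => (if i ∈ ({0} : Finset (Fin (m + 1))) then -1 else 1) * x i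
  have hfl : ∀ (c : F) (y : Fin m → F), fl (Fin.cons c y) = Fin.cons (-c) y := fun c y => funext fun i => by
    refine Fin.cases ?_ (fun i => ?_) i <;> simp [fl, Fin.succ_ne_zero]
  have hneg : ∀ f x, ω (iSL 0 (-1)) f x = k0 * f (fl x) := fun f x => by
    rw [neg_one_eq, hω, hk, LinearMap.smul_apply, Pi.smul_apply, mon_apply, Pi.one_apply, one_mul, smul_eq_mul]
  let Φ : (Fin m → F) → (Fin (m + 1) → F) → ℂ := fun y =>
    Pi.single (Fin.cons 1 y) 1 + η' • Pi.single (Fin.cons (-1) y) 1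
  set T := aA ω 0 (fe ψ (-(2 : F)⁻¹) * .of ℂ SL₂ a) with hT
  have hfix : ∀ (v : Fin (m + 1) ⊕ Fin (m + 1) → F) (M : SL₂), (iSL 0 M).1 *ᵥ v = v →
      ∀ f, wop ψ v (ω (iSL 0 M) f) = ω (iSL 0 M) (wop ψ v f) := fun v M hv f => by
    have := LinearMap.congr_fun (wR_inter ψ hψ h2 (iSL 0 M) v) f
    rw [hv] at this
    exact this.symm
  have hfixv : ∀ (a' b' : Fin m → F) (M : SL₂), (iSL 0 M).1 *ᵥ Sum.elim (Fin.cons 0 a') (Fin.cons 0 b') =
      Sum.elim (Fin.cons 0 a') (Fin.cons 0 b') := fun a' b' M => by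
    rw [iSL_mulVec]; simp
  have hTw : ∀ (a' b' : Fin m → F) f, wop ψ (Sum.elim (Fin.cons 0 a') (Fin.cons 0 b')) (T f) =
      T (wop ψ (Sum.elim (Fin.cons 0 a') (Fin.cons 0 b')) f) := fun a' b' f =>
    aA_inter ω ω 0 0 _ (fun M g => hfix _ M (hfixv a' b' M) g) _ f
  have hTn : ∀ f, ω (iSL 0 (-1)) (T f) = T (ω (iSL 0 (-1)) f) := fun f =>
    aA_inter ω ω 0 0 _ (fun M g => by
      rw [← Module.End.mul_apply, ← map_mul, neg_one_comm, map_mul, Module.End.mul_apply]) _ f
  have hz : (Fin.cons 0 (0 : Fin m → F) : Fin (m + 1) → F) = 0 :=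
    funext fun i => Fin.cases rfl (fun _ => rfl) i
  -- the translates
  have hsh : ∀ y, Φ y = wop ψ (Sum.elim (Fin.cons 0 (-y)) (Fin.cons 0 (0 : Fin m → F))) (Φ 0) := fun y => funext fun x => by
    rw [wop_apply]
    simp only [Sum.elim_inl, Sum.elim_inr]
    rw [hz, zero_dotProduct, show (fun i => (0 : Fin (m + 1) → F) i) = 0 from rfl]
    rw [dotProduct_zero, mul_zero, add_zero, AddChar.map_zero_eq_one, one_mul]
    simp only [Φ, Pi.add_apply, Pi.smul_apply, Pi.single_apply]
    have e : ∀ c : F, (x = Fin.cons c y) ↔ (x + fun i => (Fin.cons 0 (-y) : Fin (m + 1) → F) i) = Fin.cons c (0 : Fin m → F) := fun c => by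
      constructor
      · rintro rfl
        funext i
        refine Fin.cases ?_ (fun i => ?_) i <;> simp
      · intro h
        funext i
        have := congrFun h i
        revert this
        refine Fin.cases ?_ (fun i => ?_) i <;> simp [← sub_eq_add_neg, sub_eq_zero]
    rw [if_congr (e 1) rfl rfl, if_congr (e (-1)) rfl rfl]
  -- the value at the origin
  have hΦ0n : ω (iSL 0 (-1)) (Φ 0) = η • Φ 0 := funext fun x => by
    rw [hneg]
    have e : ∀ c, (fl x = Fin.cons c (0 : Fin m → F)) ↔ x = Fin.cons (-c) (0 : Fin m → F) := fun c => by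
      have hinv : ∀ z, fl (fl z) = z := fun z => funext fun i => by simp only [fl]; split <;> ring
      constructor
      · intro h; rw [← hinv x, h, hfl]
      · intro h; rw [h, hfl, neg_neg]
    simp only [Φ, Pi.add_apply, Pi.smul_apply, Pi.single_apply, smul_eq_mul]
    rw [if_congr (e 1) rfl rfl, if_congr (e (-1)) rfl rfl, neg_neg]
    have hkη : k0 = η * η' := by rw [hη']; linear_combination -k0 * hη
    conv_lhs => rw [hkη]
    linear_combination η * (if x = Fin.cons 1 (0 : Fin m → F) then (1 : ℂ) else 0) * hη''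
  set g0 := T (Φ 0) with hg0
  set κ := g0 (Fin.cons 1 0) with hκ
  have hg0z : g0 ∈ zeig ψ ω (-(2 : F)⁻¹) := by
    rw [hg0, hT, map_mul, Module.End.mul_apply]
    exact fe_mem ψ ω _ _
  have hg0f : ∀ x, g0 x ≠ 0 → ∀ i : Fin m, x i.succ = 0 := by
    intro x hx i
    by_contra hxi
    apply hψ hxi
    ext t
    set b' : Fin m → F := Pi.single i t
    have hwΦ : wop ψ (Sum.elim (Fin.cons 0 (0 : Fin m → F)) (Fin.cons 0 b')) (Φ 0) = Φ 0 := funext fun z => by
      rw [hz, wop_inr_apply]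
      by_cases hzz : ∀ j : Fin m, z j.succ = 0
      · rw [cons_dot, show (fun j : Fin m => z j.succ) = 0 from funext hzz, dotProduct_zero, AddChar.map_zero_eq_one,
          one_mul]
      · have : Φ 0 z = 0 := by
          simp only [Φ, Pi.add_apply, Pi.smul_apply]
          rw [Pi.single_eq_of_ne, Pi.single_eq_of_ne, smul_zero, add_zero] <;>
            exact fun e => hzz fun j => by rw [e, Fin.cons_succ]; rfl
        rw [this, mul_zero]
    have h := congrFun (hTw 0 b' (Φ 0)) x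
    rw [hwΦ, ← hg0, hz, wop_inr_apply, cons_dot, single_dotProduct] at h
    show ψ (x i.succ * t) = (1 : AddChar F ℂ) t
    rw [AddChar.one_apply, mul_comm]
    exact mul_right_cancel₀ hx (by rw [h, one_mul])
  have hg0Φ : g0 = κ • Φ 0 := by
    have hn := hTn (Φ 0)
    rw [hΦ0n, map_smul, ← hg0] at hn
    funext x
    by_cases hx : ∀ i : Fin m, x i.succ = 0
    swap
    · have : g0 x = 0 := by by_contra h; exact hx (hg0f x h)
      rw [this]
      simp only [Φ, Pi.smul_apply, Pi.add_apply]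
      rw [Pi.single_eq_of_ne, Pi.single_eq_of_ne]
      · simp
      all_goals exact fun e => hx fun j => by rw [e, Fin.cons_succ]; rfl
    have hxe : x = Fin.cons (x 0) 0 := funext fun i => Fin.cases rfl (fun i => by simp [hx i]) i
    have hne : (Fin.cons 1 (0 : Fin m → F) : Fin (m + 1) → F) ≠ Fin.cons (-1) 0 := fun e => by
      have := congrFun e 0
      simp at this
      exact h2' (by linear_combination this)
    by_cases h1 : x 0 = 1
    · rw [hxe, h1, hκ]
      simp [Φ, hne]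
    by_cases h1' : x 0 = -1
    · rw [hxe, h1']
      have h := congrFun hn (Fin.cons (-1) 0)
      rw [hneg, hfl, neg_neg, Pi.smul_apply, smul_eq_mul, ← hκ] at h
      simp [Φ, hne.symm]
      rw [hη']
      linear_combination -η * h - g0 (Fin.cons (-1) 0) * hη
    · have h0 : g0 x = 0 := by
        by_contra h
        have := zeig_supp ψ hψ h2 hm hg0z h
        have h' : x 0 * x 0 = 1 * 1 := by
          rw [one_mul]
          exact mul_left_cancel₀ (neg_ne_zero.2 (inv_ne_zero h2')) (by rw [this, mul_one])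
        rcases mul_self_eq_mul_self_iff.1 h' with h' | h'
        · exact h1 h'
        · exact h1' h'
      rw [h0]
      simp only [Φ, Pi.smul_apply, Pi.add_apply]
      rw [Pi.single_eq_of_ne, Pi.single_eq_of_ne]
      · simp
      · exact fun e => h1' (by rw [e, Fin.cons_zero])
      · exact fun e => h1 (by rw [e, Fin.cons_zero])
  have hTΦ : ∀ y, T (Φ y) = κ • Φ y := fun y => by
    rw [hsh y, ← hTw, ← hg0, hg0Φ, map_smul]
  refine ⟨κ, LinearMap.ext fun f => ?_⟩
  rw [map_sub, map_mul, map_smul, LinearMap.sub_apply, LinearMap.smul_apply, Module.End.mul_apply,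
    LinearMap.zero_apply, sub_eq_zero, ← hT]
  set g := aA ω 0 (fe ψ (-(2 : F)⁻¹)) f with hg
  set h := aA ω 0 (pe ψ η) f with hh
  have hgz : g ∈ zeig ψ ω (-(2 : F)⁻¹) := fe_mem ψ ω _ _
  have hhe : ∀ x, h x = (2 : ℂ)⁻¹ * (g x + η * (k0 * g (fl x))) := fun x => by
    rw [hh, pe_apply, ← hg, Pi.smul_apply, Pi.add_apply, Pi.smul_apply, hneg, smul_eq_mul, smul_eq_mul]
  have hdec : h = ∑ y : Fin m → F, h (Fin.cons 1 y) • Φ y := funext fun x => by
    rw [Finset.sum_apply]
    set y₀ : Fin m → F := fun i => x i.succ with hy₀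
    rw [Finset.sum_eq_single y₀ (fun y _ hy => ?_) (fun h' => absurd (Finset.mem_univ _) h')]
    swap
    · simp only [Φ, Pi.smul_apply, Pi.add_apply]
      rw [Pi.single_eq_of_ne, Pi.single_eq_of_ne]
      · simp
      all_goals exact fun e => hy (by rw [hy₀, e]; rfl)
    have hxe : x = Fin.cons (x 0) y₀ := funext fun i => Fin.cases rfl (fun _ => rfl) i
    have hne : (Fin.cons 1 y₀ : Fin (m + 1) → F) ≠ Fin.cons (-1) y₀ := fun e => by
      have := congrFun e 0
      simp at this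
      exact h2' (by linear_combination this)
    by_cases h1 : x 0 = 1
    · rw [hxe, h1]
      simp [Φ, hne]
    by_cases h1' : x 0 = -1
    · rw [hxe, h1']
      have e : h (Fin.cons (-1) y₀) = η' * h (Fin.cons 1 y₀) := by
        rw [hhe, hhe, hfl, hfl, neg_neg, hη']
        linear_combination -((2 : ℂ)⁻¹ * g (Fin.cons (-1) y₀)) * hη'' + (2 : ℂ)⁻¹ * g (Fin.cons (-1) y₀) * 0
      simp [Φ, hne.symm, e, mul_comm]
    · have hs : ∀ z : Fin (m + 1) → F, z 0 ≠ 1 → z 0 ≠ -1 → g z = 0 := fun z hz1 hz2 => by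
        by_contra hgz'
        have := zeig_supp ψ hψ h2 hm hgz hgz'
        have h' : z 0 * z 0 = 1 * 1 := by
          rw [one_mul]
          exact mul_left_cancel₀ (neg_ne_zero.2 (inv_ne_zero h2')) (by rw [this, mul_one])
        rcases mul_self_eq_mul_self_iff.1 h' with h' | h'
        · exact hz1 h'
        · exact hz2 h'
      have hfl0 : fl x 0 = -x 0 := by simp [fl]
      rw [hhe, hs x h1 h1', hs (fl x) (fun e => h1' (by rw [hfl0, neg_eq_iff_eq_neg] at e; exact e))
        (fun e => h1 (by rw [hfl0, neg_inj] at e; exact e))]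
      simp only [Φ, Pi.smul_apply, Pi.add_apply]
      rw [Pi.single_eq_of_ne, Pi.single_eq_of_ne]
      · simp
      · exact fun e => h1' (by rw [e, Fin.cons_zero])
      · exact fun e => h1 (by rw [e, Fin.cons_zero])
  rw [hdec, map_sum, Finset.smul_sum]
  exact Finset.sum_congr rfl fun y _ => by rw [map_smul, hTΦ, smul_comm]

end CfsgLib.Char.SpWeil
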