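/-
Representations with spectrum of rank one are Weil representations.
-/
import Cfsg.Agent.Lib.Char.SpWeil.Kernel

set_option autoImplicit false

namespace CfsgLib.Char.SpWeil

open Matrix CfsgLib.Sp Module
open CfsgLib.Classical.WeilSp (parity parity_apply parSpace mem_parSpace preserve)

variable {F : Type*} [Field F] [Fintype F] {m : ℕ} {V : Type*} [AddCommGroup V] [Module ℂ V] [FiniteDimensional ℂ V]

local notation "SL₂" => Matrix.SpecialLinearGroup (Fin 2) F

variable (ψ : AddChar F ℂ) (hψ : ψ.IsPrimitive) (h2 : ringChar F ≠ 2)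

omit [Fintype F] in
theorem zeig_prod {W : Type*} [AddCommGroup W] [Module ℂ W]
    (ρ : Representation ℂ (Matrix.symplecticGroup (Fin (m + 1)) F) V)
    (ρ' : Representation ℂ (Matrix.symplecticGroup (Fin (m + 1)) F) W) (r : F) (p : V × W) :
    p ∈ zeig ψ (ρ.prod ρ') r ↔ p.1 ∈ zeig ψ ρ r ∧ p.2 ∈ zeig ψ ρ' r := by
  simp only [mem_zeig]
  exact ⟨fun h => ⟨fun t => congrArg Prod.fst (h t), fun t => congrArg Prod.snd (h t)⟩,
    fun h t => Prod.ext (h.1 t) (h.2 t)⟩

/-- The central involution acts by a sign in an irreducible representation. -/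
theorem exists_sign (σ : Representation ℂ (Matrix.symplecticGroup (Fin (m + 1)) F) V) [σ.IsIrreducible] :
    ∃ d : ℂ, d * d = 1 ∧ ∀ v, σ (negOn Finset.univ) v = d • v := by
  set z : Matrix.symplecticGroup (Fin (m + 1)) F := negOn Finset.univ with hz
  have hz2 : z * z = 1 := sp_ext_elim fun a b => by
    rw [sp_mul_mulVec, negOn_mulVec, negOn_mulVec, sp_one_mulVec]
    congr 1 <;> funext i <;> simp
  let S : Subrepresentation σ := ⟨LinearMap.ker (σ z - 1), fun g v hv => by
    rw [LinearMap.mem_ker, LinearMap.sub_apply, Module.End.one_apply, sub_eq_zero] at hv ⊢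
    rw [← Module.End.mul_apply, ← map_mul, ← Subgroup.mem_center_iff.1 (negOn_univ_mem_center (F := F) (n := m + 1)) g,
      map_mul, Module.End.mul_apply, hv]⟩
  rcases IsSimpleOrder.eq_bot_or_eq_top (α := Subrepresentation σ) S with h | h
  · refine ⟨-1, by norm_num, fun v => ?_⟩
    have e : LinearMap.ker (σ z - 1) = ⊥ := congrArg Subrepresentation.toSubmodule h
    have hv : σ z (σ z v + v) - (σ z v + v) = 0 := by
      rw [map_add, ← Module.End.mul_apply, ← map_mul, hz2, map_one, Module.End.one_apply]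
      abel
    have := LinearMap.ker_eq_bot'.1 e (σ z v + v) hv
    rw [neg_one_smul]
    exact eq_neg_of_add_eq_zero_left this
  · refine ⟨1, one_mul 1, fun v => ?_⟩
    have e : LinearMap.ker (σ z - 1) = ⊤ := congrArg Subrepresentation.toSubmodule h
    have hv : v ∈ LinearMap.ker (σ z - 1) := e ▸ Submodule.mem_top
    rw [LinearMap.mem_ker, LinearMap.sub_apply, Module.End.one_apply, sub_eq_zero] at hv
    rw [hv, one_smul]

include hψ h2 in
/-- The classification of the representations with spectrum of rank one. -/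
theorem character_eq (hm : 1 ≤ m) (h3 : 3 ≤ Fintype.card F)
    (σ : Representation ℂ (Matrix.symplecticGroup (Fin (m + 1)) F) V) [σ.IsIrreducible]
    (hR : RankOne ψ σ) {u : V} (hu : u ∈ baseEig ψ σ) (hu0 : u ≠ 0) :
    ∃ ε : ℂ, (ε = 1 ∨ ε = -1) ∧ σ.character = (parRep ψ hψ h2 (n := m + 1) ε).character := by
  classical
  have h2' := two_ne h2
  obtain ⟨δ, hδ⟩ := FiniteField.exists_nonsquare (F := F) h2
  have hδ0 : δ ≠ 0 := fun e => hδ (e ▸ IsSquare.zero)
  set ω := wR ψ hψ h2 (n := m + 1) with hω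
  set z : Matrix.symplecticGroup (Fin (m + 1)) F := negOn Finset.univ with hz
  obtain ⟨d, hd, hdz⟩ := exists_sign σ
  obtain ⟨k, hk, hkz⟩ := negOn_smul ψ hψ h2 (Finset.univ : Finset (Fin (m + 1)))
  set ε : ℂ := d * k with hε
  have hεε : ε * ε = 1 := by rw [hε]; linear_combination d * d * hk + hd
  refine ⟨ε, mul_self_eq_one_iff.1 hεε, ?_⟩
  have hωz : ∀ f, parity F (m + 1) f = ε • f → ω z f = d • f := fun f hf => funext fun x => by
    rw [hω, hz, hkz, LinearMap.smul_apply, Pi.smul_apply, mon_apply, Pi.one_apply, one_mul, smul_eq_mul, Pi.smul_apply,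
      smul_eq_mul]
    have := congrFun hf x
    rw [parity_apply, Pi.smul_apply, smul_eq_mul] at this
    rw [show (fun i => (if i ∈ (Finset.univ : Finset (Fin (m + 1))) then -1 else 1) * x i) = -x from
      funext fun i => by simp, this, hε]
    linear_combination d * f x * hk
  -- the graph
  set π := ω.prod σ with hπ
  let Γ : Submodule ℂ (((Fin (m + 1) → F) → ℂ) × V) :=
    { carrier := {p | parity F (m + 1) p.1 = ε • p.1 ∧ (∀ x, x 0 * x 0 ≠ 1 → p.1 x = 0) ∧ p.2 = tu σ u p.1}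
      add_mem' := fun {p p'} hp hp' => ⟨by rw [Prod.fst_add, map_add, hp.1, hp'.1, smul_add], fun x hx => by
        rw [Prod.fst_add, Pi.add_apply, hp.2.1 x hx, hp'.2.1 x hx, add_zero], by
        rw [Prod.fst_add, Prod.snd_add, map_add, hp.2.2, hp'.2.2]⟩
      zero_mem' := ⟨by simp, fun x _ => rfl, by simp⟩
      smul_mem' := fun c p hp => ⟨by rw [Prod.smul_fst, map_smul, hp.1, smul_comm], fun x hx => by
        rw [Prod.smul_fst, Pi.smul_apply, hp.2.1 x hx, smul_zero], by
        rw [Prod.smul_fst, Prod.smul_snd, map_smul, hp.2.2]⟩ }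
  have memΓ : ∀ p, p ∈ Γ ↔ parity F (m + 1) p.1 = ε • p.1 ∧ (∀ x, x 0 * x 0 ≠ 1 → p.1 x = 0) ∧
      p.2 = tu σ u p.1 := fun p => Iff.rfl
  have hΓpar : ∀ g f, parity F (m + 1) f = ε • f → parity F (m + 1) (ω g f) = ε • ω g f := fun g f hf => by
    rw [← Module.End.mul_apply, hω, ← wR_parity, Module.End.mul_apply, hf, map_smul]
  have hΓk : ∀ g, g ∈ interSub ψ hψ h2 σ →
      (∀ t : F, g.1 *ᵥ Sum.elim (0 : Fin (m + 1) → F) (Pi.single 0 t) = Sum.elim (0 : Fin (m + 1) → F) (Pi.single 0 t)) →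
      ∀ p ∈ Γ, π g p ∈ Γ := by
    intro g hg hfix p hp
    obtain ⟨h1, h1', h1''⟩ := (memΓ p).1 hp
    refine ⟨hΓpar g _ h1, fun x hx => ?_, ?_⟩
    · have e : p.1 = fun x => (fun s : F => if s * s = 1 then (1 : ℂ) else 0) (x 0) * p.1 x := funext fun y => by
        by_cases h : y 0 * y 0 = 1 <;> simp [h, h1' y]
      show ω g p.1 x = 0
      rw [e, hω, wR_slice ψ hψ h2 hfix (fun s : F => if s * s = 1 then (1 : ℂ) else 0) p.1]
      simp [hx]
    · show σ g p.2 = tu σ u (ω g p.1)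
      rw [h1'', hω, hg u hu]
  have hlsh : ∀ y, ∀ p ∈ Γ, π (lsh y) p ∈ Γ := fun y => hΓk _ (lsh_mem_interSub ψ hψ h2 σ y) fun t => by
    rw [lsh_mulVec]
    congr 1
    · funext i; simp
    · funext i; simp [dotProduct_single]
  have hhQ : ∀ s, ∀ p ∈ Γ, π (hQ s) p ∈ Γ := fun s => hΓk _ (hQ_mem_interSub ψ hψ h2 σ hm s) fun t => by
    rw [hQ_mulVec]
    congr 1
    funext i
    simp
  -- the rest of the central involution
  set zB : Matrix.symplecticGroup (Fin (m + 1)) F := negOn (Finset.univ.erase 0) with hzB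
  have hzB' : iSL 0 (-1 : SL₂) = z * zB := by
    have e : z = iSL 0 (-1) * zB := by
      rw [hz, hzB, ← negOn_insert _ (Finset.notMem_erase _ _), Finset.insert_erase (Finset.mem_univ _)]
    have e' : zB * zB = 1 := sp_ext_elim fun a b => by
      rw [sp_mul_mulVec, negOn_mulVec, negOn_mulVec, sp_one_mulVec]
      congr 1 <;> funext i <;> split <;> ring
    rw [e, mul_assoc, e', mul_one]
  have hneg : ∀ p ∈ Γ, π (iSL 0 (-1)) p ∈ Γ := by
    intro p hp
    have h1 := hΓk zB (negOn_mem_interSub ψ hψ h2 σ hm hR _ (Finset.notMem_erase _ _)) (fun t => by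
      rw [negOn_mulVec]
      congr 1 <;> funext i <;> refine Fin.cases ?_ (fun i => ?_) i <;> simp [Fin.succ_ne_zero]) p hp
    rw [hzB', map_mul, Module.End.mul_apply]
    have e : π z (π zB p) = d • π zB p := Prod.ext (hωz _ ((memΓ _).1 h1).1) (hdz _)
    rw [e]
    exact Γ.smul_mem d h1
  have hΓz : ∀ p ∈ Γ, p ∈ zeig ψ π (-(2 : F)⁻¹) := fun p hp => by
    obtain ⟨-, h1', h1''⟩ := (memΓ p).1 hp
    refine (zeig_prod ψ ω σ _ p).2 ⟨fun t => funext fun x => ?_, h1'' ▸ tu_mem_zeig ψ σ hu p.1⟩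
    rw [hω, wR_lo ψ hψ h2 hm, Pi.smul_apply, smul_eq_mul]
    by_cases hx : x 0 * x 0 = 1
    · rw [hx, mul_one]
    · rw [h1' x hx, mul_zero, mul_zero]
  have hRω : RankOne ψ ω := rankOne_wR ψ hψ h2 (by omega)
  have hfix0 : ∀ w ∈ zeig ψ π 0, ∀ y, π (lsh y) w = w ∧ π (hQ y) w = w := fun w hw y => by
    obtain ⟨ha, hb⟩ := (zeig_prod ψ ω σ 0 w).1 hw
    exact ⟨Prod.ext (lsh_fix ψ hψ h2 ω hRω ha y) (lsh_fix ψ hψ h2 σ hR hb y),
      Prod.ext (hQ_fix ψ hψ h2 ω hRω ha y) (hQ_fix ψ hψ h2 σ hR hb y)⟩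
  have huz : u ∈ zeig ψ σ (-(2 : F)⁻¹) := by
    have := eig_le_zeig ψ σ _ hu
    simpa [vecMulVec_apply] using this
  have hker := fun X h1 h1' => kernel_zero ψ hψ h2 hm σ hR (neg_ne_zero.2 (inv_ne_zero h2')) huz hu0 hδ X h1 h1'
  have hδz : aA (wR (ψ.mulShift δ) (mulShift_primitive ψ hψ hδ0) h2 (n := m + 1)) 0 (fe ψ (-(2 : F)⁻¹)) = 0 := by
    refine LinearMap.ext fun f => funext fun x => ?_
    by_contra hne
    set ω' := wR (ψ.mulShift δ) (mulShift_primitive ψ hψ hδ0) h2 (n := m + 1)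
    have hmem : aA ω' 0 (fe ψ (-(2 : F)⁻¹)) f ∈ zeig (ψ.mulShift δ) ω' (δ⁻¹ * -(2 : F)⁻¹) := by
      rw [zeig_mulShift, mul_inv_cancel_left₀ hδ0]
      exact fe_mem ψ ω' _ f
    have := zeig_supp (ψ.mulShift δ) (mulShift_primitive ψ hψ hδ0) h2 hm hmem hne
    refine hδ ⟨(x 0)⁻¹, ?_⟩
    have e : x 0 * x 0 = δ⁻¹ := mul_left_cancel₀ (neg_ne_zero.2 (inv_ne_zero h2')) (by rw [this, mul_comm])
    rw [← mul_inv, e, inv_inv]
  have hωδ : aA ω 0 (fe ψ (-(2 : F)⁻¹ * δ)) = 0 := by
    refine LinearMap.ext fun f => funext fun x => ?_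
    by_contra hne
    have := zeig_supp ψ hψ h2 hm (fe_mem ψ ω (-(2 : F)⁻¹ * δ) f) hne
    exact hδ ⟨x 0, (mul_left_cancel₀ (neg_ne_zero.2 (inv_ne_zero h2')) this).symm⟩
  -- compressions
  have hpe : ∀ (η : ℂ) (p : ((Fin (m + 1) → F) → ℂ) × V), p ∈ Γ → π (iSL 0 (-1)) p = η • p → η * η = 1 →
      aA π 0 (pe ψ η) p = p := fun η p hp hpη hη => by
    rw [pe_apply, fe_of_mem ψ π hψ (hΓz p hp), if_pos rfl, hpη, smul_smul, hη, one_smul, ← two_smul ℂ p, smul_smul,
      inv_mul_cancel₀ (two_ne_zero), one_smul]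
  have hcomp : ∀ (M : SL₂) (p : ((Fin (m + 1) → F) → ℂ) × V), p ∈ Γ →
      aA π 0 (fe ψ (-(2 : F)⁻¹)) (π (iSL 0 M) p) ∈ Γ ∧
      aA π 0 (fe ψ (-(2 : F)⁻¹ * δ)) (π (iSL 0 M) p) = 0 := by
    intro M p hp
    have hsplit : ∀ (η : ℂ) (p : ((Fin (m + 1) → F) → ℂ) × V), p ∈ Γ → π (iSL 0 (-1)) p = η • p → η * η = 1 →
        aA π 0 (fe ψ (-(2 : F)⁻¹)) (π (iSL 0 M) p) ∈ Γ ∧
        aA π 0 (fe ψ (-(2 : F)⁻¹ * δ)) (π (iSL 0 M) p) = 0 := by
      intro η p hp hpη hη
      obtain ⟨κ, hκ⟩ := exists_kappa ψ hψ h2 hm M η hη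
      constructor
      · set X := fe ψ (-(2 : F)⁻¹) * .of ℂ SL₂ M * pe ψ η - κ • pe ψ η with hX
        have hXσ := hker X hκ (by
          rw [hX, map_sub, map_mul, map_mul, map_smul, pe, map_mul, hδz]
          simp)
        have e : aA π 0 X p = 0 := by rw [aA_prod, hκ, hXσ]; rfl
        rw [hX, map_sub, map_mul, map_mul, map_smul, aA_of, LinearMap.sub_apply, LinearMap.smul_apply,
          Module.End.mul_apply, Module.End.mul_apply, hpe η p hp hpη hη, sub_eq_zero] at e
        rw [e]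
        exact Γ.smul_mem κ hp
      · set X := fe ψ (-(2 : F)⁻¹ * δ) * .of ℂ SL₂ M * pe ψ η with hX
        have hXσ := hker X (by rw [hX, map_mul, map_mul, hωδ, zero_mul, zero_mul]) (by
          rw [hX, map_mul, map_mul, pe, map_mul, hδz]
          simp)
        have e : aA π 0 X p = 0 := by
          rw [aA_prod, hXσ, show aA ω 0 X = 0 by rw [hX, map_mul, map_mul, hωδ, zero_mul, zero_mul]]; rfl
        rwa [hX, map_mul, map_mul, aA_of, Module.End.mul_apply, Module.End.mul_apply, hpe η p hp hpη hη] at e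
    set p1 := (2 : ℂ)⁻¹ • (p + π (iSL 0 (-1)) p) with hp1
    set p2 := (2 : ℂ)⁻¹ • (p - π (iSL 0 (-1)) p) with hp2
    have hinv : π (iSL 0 (-1)) (π (iSL 0 (-1)) p) = p := by
      rw [← Module.End.mul_apply, ← map_mul, ← map_mul, neg_mul_neg, one_mul, map_one, map_one, Module.End.one_apply]
    have h1 := hsplit 1 p1 (Γ.smul_mem _ (Γ.add_mem hp (hneg p hp)))
      (by rw [hp1, one_smul, map_smul, map_add, hinv]; exact congrArg _ (add_comm _ _)) (one_mul 1)
    have h2'' := hsplit (-1) p2 (Γ.smul_mem _ (Γ.sub_mem hp (hneg p hp)))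
      (by rw [hp2, map_smul, map_sub, hinv, neg_one_smul, ← smul_neg, neg_sub]) (by norm_num)
    have hpp : p = p1 + p2 := by
      rw [hp1, hp2, ← smul_add, add_add_sub_cancel, ← two_smul ℂ p, smul_smul, inv_mul_cancel₀ (two_ne_zero),
        one_smul]
    rw [hpp, map_add, map_add, map_add]
    exact ⟨Γ.add_mem h1.1 h2''.1, by rw [h1.2, h2''.2, add_zero]⟩
  -- the generated submodule
  set N : Submodule ℂ (((Fin (m + 1) → F) → ℂ) × V) :=
    Submodule.span ℂ {x | ∃ (M : SL₂), ∃ p ∈ Γ, x = π (iSL 0 M) p} with hN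
  have hA : ∀ M : SL₂, ∀ v ∈ N, π (iSL 0 M) v ∈ N := by
    intro M v hv
    induction hv using Submodule.span_induction with
    | mem x hx =>
      obtain ⟨M', p, hp, rfl⟩ := hx
      exact Submodule.subset_span ⟨M * M', p, hp, by rw [map_mul, map_mul, Module.End.mul_apply]⟩
    | zero => rw [map_zero]; exact N.zero_mem
    | add x y _ _ hx hy => rw [map_add]; exact N.add_mem hx hy
    | smul a x _ hx => rw [map_smul]; exact N.smul_mem a hx
  have hNΓ : ∀ v ∈ N, aA π 0 (fe ψ (-(2 : F)⁻¹)) v ∈ Γ ∧ aA π 0 (fe ψ (-(2 : F)⁻¹ * δ)) v = 0 := by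
    intro v hv
    induction hv using Submodule.span_induction with
    | mem x hx =>
      obtain ⟨M, p, hp, rfl⟩ := hx
      exact hcomp M p hp
    | zero => simp
    | add x y _ _ hx hy => rw [map_add, map_add, hx.2, hy.2, add_zero]; exact ⟨Γ.add_mem hx.1 hy.1, rfl⟩
    | smul a x _ hx => rw [map_smul, map_smul, hx.2, smul_zero]; exact ⟨Γ.smul_mem a hx.1, rfl⟩
  have hmove : ∀ (g : Matrix.symplecticGroup (Fin (m + 1)) F),
      (∀ t (ht : t ≠ (0 : F)), ∃ g', g * iSL 0 (dia t ht) = iSL 0 (dia t ht) * g' ∧ ∀ p ∈ Γ, π g' p ∈ Γ) →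
      (∀ w ∈ zeig ψ π 0, π g w = w) → ∀ v ∈ N, π g v ∈ N := by
    intro g hg hg0 v hv
    have hd : π g v - v ∈ N := by
      conv => arg 2; rw [← sum_fe ψ π hψ h2 v, map_sum, ← Finset.sum_sub_distrib]
      refine Submodule.sum_mem _ fun r _ => ?_
      by_cases hr : r = 0
      · subst hr
        rw [hg0 _ (fe_mem ψ π 0 v), sub_self]
        exact N.zero_mem
      obtain ⟨t, ht, hrt⟩ := square_class h2 hδ (show -(2 : F) * r ≠ 0 from mul_ne_zero (neg_ne_zero.2 h2') hr)
      have hti := inv_ne_zero ht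
      have hD : ∀ s, s * ((t * t)) = r → aA π 0 (fe ψ r) v =
          π (iSL 0 (dia t ht)) (aA π 0 (fe ψ s) (π (iSL 0 (dia t ht))⁻¹ v)) := by
        intro s hs
        rw [fe_dia ψ π hψ h2 ht, hs, ← Module.End.mul_apply (π (iSL 0 (dia t ht))), ← map_mul, mul_inv_cancel, map_one,
          Module.End.one_apply]
      have hv' : π (iSL 0 (dia t ht))⁻¹ v ∈ N := by rw [← map_inv]; exact hA _ v hv
      obtain ⟨hΓ', h0'⟩ := hNΓ _ hv'
      rcases hrt with hrt | hrt
      · rw [hD (-(2 : F)⁻¹) (by rw [← hrt]; field_simp)]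
        obtain ⟨g', hgg, hg'⟩ := hg t ht
        refine N.sub_mem ?_ (Submodule.subset_span ⟨_, _, hΓ', rfl⟩)
        rw [← Module.End.mul_apply (π g), ← map_mul, hgg, map_mul, Module.End.mul_apply]
        exact Submodule.subset_span ⟨_, _, hg' _ hΓ', rfl⟩
      · rw [hD (-(2 : F)⁻¹ * δ) (by rw [mul_assoc, ← hrt]; field_simp), h0', map_zero, map_zero, sub_zero]
        exact N.zero_mem
    have := N.add_mem hd hv
    rwa [sub_add_cancel] at this
  let H : Subgroup (Matrix.symplecticGroup (Fin (m + 1)) F) :=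
    { carrier := {g | (∀ v ∈ N, π g v ∈ N) ∧ ∀ v ∈ N, π g⁻¹ v ∈ N}
      mul_mem' := fun {a b} ha hb => ⟨fun v hv => by rw [map_mul, Module.End.mul_apply]; exact ha.1 _ (hb.1 v hv),
        fun v hv => by rw [_root_.mul_inv_rev, map_mul, Module.End.mul_apply]; exact hb.2 _ (ha.2 v hv)⟩
      one_mem' := ⟨fun v hv => by rwa [map_one, Module.End.one_apply],
        fun v hv => by rwa [inv_one, map_one, Module.End.one_apply]⟩
      inv_mem' := fun {a} ha => ⟨ha.2, fun v hv => by rw [inv_inv]; exact ha.1 v hv⟩ }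
  have hcons : (Fin.cons 0 (0 : Fin m → F) : Fin (m + 1) → F) = 0 := funext fun i => Fin.cases rfl (fun _ => rfl) i
  have hL : ∀ y, ∀ v ∈ N, π (lsh y) v ∈ N := fun y => hmove _
    (fun t ht => ⟨lsh (t • y), by
      rw [dia_lsh, inv_smul_smul₀ ht], hlsh _⟩)
    fun w hw => (hfix0 w hw y).1
  have hQN : ∀ s, ∀ v ∈ N, π (hQ s) v ∈ N := fun s => hmove _
    (fun t ht => ⟨hQ (t • s), by rw [dia_hQ, inv_smul_smul₀ ht], hhQ _⟩)
    fun w hw => (hfix0 w hw s).2
  have hLi : ∀ y : Fin m → F, (lsh y : Matrix.symplecticGroup (Fin (m + 1)) F)⁻¹ = lsh (-y) := fun y =>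
    inv_eq_of_mul_eq_one_right (by
      rw [lsh_mul, add_neg_cancel]
      exact sp_ext_elim fun a b => by
        rw [lsh_mulVec, sp_one_mulVec, hcons]
        simp)
  have hQi : ∀ s : Fin m → F, (hQ s : Matrix.symplecticGroup (Fin (m + 1)) F)⁻¹ = hQ (-s) := fun s =>
    inv_eq_of_mul_eq_one_right (by
      rw [hQ, hQ, low_mul, ← low_zero]
      refine low_congr ?_ _ _
      rw [sR, sR, show (Fin.cons 0 (-s) : Fin (m + 1) → F) = -Fin.cons 0 s from
        funext fun i => Fin.cases (by simp) (fun _ => rfl) i, vecMulVec_neg, neg_vecMulVec]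
      abel)
  have htop : H = ⊤ := eq_top_of_gens H (fun M => ⟨hA M, fun v hv => by rw [← map_inv]; exact hA _ v hv⟩)
    (fun y => ⟨hL y, fun v hv => by rw [hLi]; exact hL _ v hv⟩)
    (fun s => ⟨hQN s, fun v hv => by rw [hQi]; exact hQN _ v hv⟩)
  have hinv : ∀ g, ∀ v ∈ N, π g v ∈ N := fun g => (htop.symm ▸ Subgroup.mem_top g : g ∈ H).1
  -- the base point
  set f0 : (Fin (m + 1) → F) → ℂ := Pi.single (Fin.cons 1 0) 1 + ε • Pi.single (Fin.cons (-1) 0) 1 with hf0
  have hne : (Fin.cons 1 (0 : Fin m → F) : Fin (m + 1) → F) ≠ Fin.cons (-1) 0 := fun e => by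
    have := congrFun e 0
    simp at this
    exact h2' (by linear_combination this)
  have hf0m : (f0, u) ∈ Γ := by
    refine ⟨funext fun x => ?_, fun x hx => ?_, ?_⟩
    · have e : ∀ c : F, (-x = Fin.cons c (0 : Fin m → F)) ↔ x = Fin.cons (-c) 0 := fun c => by
        rw [neg_eq_iff_eq_neg]
        refine iff_of_eq (congrArg (x = ·) (funext fun i => ?_))
        refine Fin.cases ?_ (fun i => ?_) i <;> simp
      show parity F (m + 1) f0 x = (ε • f0) x
      rw [parity_apply, Pi.smul_apply, smul_eq_mul, hf0, Pi.add_apply, Pi.add_apply, Pi.smul_apply, Pi.smul_apply,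
        Pi.single_apply, Pi.single_apply, Pi.single_apply, Pi.single_apply, if_congr (e 1) rfl rfl,
        if_congr (e (-1)) rfl rfl, neg_neg, smul_eq_mul, smul_eq_mul]
      linear_combination -(if x = Fin.cons (-1) (0 : Fin m → F) then (1 : ℂ) else 0) * hεε
    · show f0 x = 0
      rw [hf0, Pi.add_apply, Pi.smul_apply, Pi.single_eq_of_ne, Pi.single_eq_of_ne, smul_zero, add_zero]
      all_goals exact fun e => hx (by rw [e, Fin.cons_zero]; ring)
    · show u = tu σ u f0
      have l1 : lsh (0 : Fin m → F) = 1 := sp_ext_elim fun a b => by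
        rw [lsh_mulVec, sp_one_mulVec, hcons]; simp
      have n1 : ∀ y : Fin m → F, (Fin.cons 1 y : Fin (m + 1) → F) ≠ Fin.cons (-1) 0 := fun y e => by
        have := congrFun e 0
        simp at this
        exact h2' (by linear_combination this)
      rw [tu_apply, Finset.sum_eq_single 0]
      · simp [hf0, l1, hne]
      · intro y _ hy
        have n2 : (Fin.cons 1 y : Fin (m + 1) → F) ≠ Fin.cons 1 0 := fun e =>
          hy (funext fun i => by simpa using congrFun e i.succ)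
        rw [hf0, Pi.add_apply, Pi.smul_apply, Pi.single_eq_of_ne n2, Pi.single_eq_of_ne (n1 y), smul_zero, add_zero,
          zero_smul]
      · simp
  have hf0N : (f0, u) ∈ N :=
    Submodule.subset_span ⟨1, _, hf0m, by rw [map_one, map_one, Module.End.one_apply]⟩
  have hu1 : ((0 : (Fin (m + 1) → F) → ℂ), u) ∉ N := fun h => by
    obtain ⟨hh, -⟩ := hNΓ _ h
    rw [fe_of_mem ψ π hψ ((zeig_prod ψ ω σ _ _).2 ⟨Submodule.zero_mem _, huz⟩), if_pos rfl] at hh
    have e : u = tu σ u (0 : (Fin (m + 1) → F) → ℂ) := ((memΓ _).1 hh).2.2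
    exact hu0 (e.trans (map_zero _))
  have hNpar : ∀ v ∈ N, v.1 ∈ parSpace F (m + 1) ε := by
    intro v hv
    induction hv using Submodule.span_induction with
    | mem x hx =>
      obtain ⟨M, p, hp, rfl⟩ := hx
      exact mem_parSpace.2 (hΓpar _ _ ((memΓ p).1 hp).1)
    | zero => exact Submodule.zero_mem _
    | add x y _ _ hx hy => exact Submodule.add_mem _ hx hy
    | smul a x _ hx => exact Submodule.smul_mem _ a hx
  haveI hωirr := parRep_irreducible ψ hψ h2 (n := m + 1) (by omega) h3 (mul_self_eq_one_iff.1 hεε)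
  set ρε := parRep ψ hψ h2 (n := m + 1) ε with hρε
  -- the projections
  set P1 : ↥N →ₗ[ℂ] ↥(parSpace F (m + 1) ε) :=
    LinearMap.codRestrict _ ((LinearMap.fst ℂ _ _).comp N.subtype) (fun v => hNpar v v.2) with hP1
  set P2 : ↥N →ₗ[ℂ] V := (LinearMap.snd ℂ _ _).comp N.subtype with hP2
  have hP1i : Function.Injective P1 := by
    rw [← LinearMap.ker_eq_bot, LinearMap.ker_eq_bot']
    intro v hv
    let S : Subrepresentation σ :=
      ⟨Submodule.comap (LinearMap.inr ℂ ((Fin (m + 1) → F) → ℂ) V) N, fun g w hw => by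
        rw [Submodule.mem_comap] at hw ⊢
        have := hinv g _ hw
        have e : π g (LinearMap.inr ℂ _ V w) = LinearMap.inr ℂ _ V (σ g w) := Prod.ext (map_zero (ω g)) rfl
        rwa [e] at this⟩
    rcases IsSimpleOrder.eq_bot_or_eq_top (α := Subrepresentation σ) S with h | h
    · have e : Submodule.comap (LinearMap.inr ℂ ((Fin (m + 1) → F) → ℂ) V) N = ⊥ :=
        congrArg Subrepresentation.toSubmodule h
      have h1 : v.1.1 = 0 := congrArg Subtype.val hv
      have h2v : v.1.2 ∈ Submodule.comap (LinearMap.inr ℂ ((Fin (m + 1) → F) → ℂ) V) N := by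
        rw [Submodule.mem_comap]
        convert v.2 using 1
        exact Prod.ext h1.symm rfl
      rw [e, Submodule.mem_bot] at h2v
      exact Subtype.ext (Prod.ext h1 h2v)
    · exfalso
      have e : Submodule.comap (LinearMap.inr ℂ ((Fin (m + 1) → F) → ℂ) V) N = ⊤ :=
        congrArg Subrepresentation.toSubmodule h
      exact hu1 (Submodule.mem_comap.1 (e ▸ Submodule.mem_top : u ∈ Submodule.comap (LinearMap.inr ℂ _ V) N))
  have hP1s : Function.Surjective P1 := by
    let S : Subrepresentation ρε := ⟨LinearMap.range P1, by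
      rintro g _ ⟨v, rfl⟩
      exact ⟨⟨π g v, hinv g _ v.2⟩, Subtype.ext rfl⟩⟩
    rcases IsSimpleOrder.eq_bot_or_eq_top (α := Subrepresentation ρε) S with h | h
    · exfalso
      have e : LinearMap.range P1 = ⊥ := congrArg Subrepresentation.toSubmodule h
      have : f0 = 0 := congrArg Subtype.val (LinearMap.congr_fun (LinearMap.range_eq_bot.1 e) ⟨_, hf0N⟩)
      have h' := congrFun this (Fin.cons 1 0)
      simp [hf0, hne] at h'
    · exact LinearMap.range_eq_top.1 (congrArg Subrepresentation.toSubmodule h)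
  set L := LinearEquiv.ofBijective P1 ⟨hP1i, hP1s⟩ with hL'
  set T : ↥(parSpace F (m + 1) ε) →ₗ[ℂ] V := P2.comp L.symm.toLinearMap with hT
  have hTeq : ∀ g f, T (ρε g f) = σ g (T f) := by
    intro g f
    obtain ⟨v, rfl⟩ := L.surjective f
    have e : ρε g (L v) = L ⟨π g v, hinv g _ v.2⟩ := Subtype.ext rfl
    rw [e, hT]
    simp only [LinearMap.comp_apply, LinearEquiv.coe_coe, LinearEquiv.symm_apply_apply]
    rfl
  have hTi : Function.Injective T := by
    rw [← LinearMap.ker_eq_bot]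
    let S : Subrepresentation ρε := ⟨LinearMap.ker T, fun g f hf => by
      rw [LinearMap.mem_ker] at hf ⊢
      rw [hTeq, hf, map_zero]⟩
    rcases IsSimpleOrder.eq_bot_or_eq_top (α := Subrepresentation ρε) S with h | h
    · exact congrArg Subrepresentation.toSubmodule h
    · exfalso
      have e : LinearMap.ker T = ⊤ := congrArg Subrepresentation.toSubmodule h
      have : T (L ⟨_, hf0N⟩) = 0 := LinearMap.mem_ker.1 (e ▸ Submodule.mem_top)
      rw [hT] at this
      simp only [LinearMap.comp_apply, LinearEquiv.coe_coe, LinearEquiv.symm_apply_apply] at this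
      exact hu0 this
  have hTs : Function.Surjective T := by
    let S : Subrepresentation σ := ⟨LinearMap.range T, by
      rintro g _ ⟨f, rfl⟩
      exact ⟨_, hTeq g f⟩⟩
    rcases IsSimpleOrder.eq_bot_or_eq_top (α := Subrepresentation σ) S with h | h
    · exfalso
      have e : LinearMap.range T = ⊥ := congrArg Subrepresentation.toSubmodule h
      have : T (L ⟨_, hf0N⟩) = 0 := LinearMap.congr_fun (LinearMap.range_eq_bot.1 e) _
      rw [hT] at this
      simp only [LinearMap.comp_apply, LinearEquiv.coe_coe, LinearEquiv.symm_apply_apply] at this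
      exact hu0 this
    · exact LinearMap.range_eq_top.1 (congrArg Subrepresentation.toSubmodule h)
  exact (Representation.char_iso (Representation.Equiv.mk (LinearEquiv.ofBijective T ⟨hTi, hTs⟩)
    fun g => LinearMap.ext fun f => hTeq g f)).symm

end CfsgLib.Char.SpWeil
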