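/-
Small characters of symplectic groups over fields of odd order.
-/
import Cfsg.Agent.Lib.Char.SpWeil.Unique
import Cfsg.Prelude.Def_Characters

set_option autoImplicit false

namespace CfsgLib.Char.SpWeil

open Matrix Module
open CfsgLib.Classical.WeilSp (parity parity_apply parSpace mem_parSpace finrank_parSpace exists_gl_col levi)

variable {F : Type*} [Field F] [Fintype F] {m : ℕ}

variable (ψ : AddChar F ℂ) (hψ : ψ.IsPrimitive) (h2 : ringChar F ≠ 2)

theorem trace_aA_eq {V W : Type*} [AddCommGroup V] [Module ℂ V] [AddCommGroup W] [Module ℂ W]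
    (ρ : Representation ℂ (Matrix.symplecticGroup (Fin (m + 1)) F) V)
    (ρ' : Representation ℂ (Matrix.symplecticGroup (Fin (m + 1)) F) W) (h : ρ.character = ρ'.character)
    (X : MonoidAlgebra ℂ (Matrix.SpecialLinearGroup (Fin 2) F)) :
    LinearMap.trace ℂ V (aA ρ 0 X) = LinearMap.trace ℂ W (aA ρ' 0 X) := by
  induction X using MonoidAlgebra.induction_on with
  | of M => rw [aA_of, aA_of]; exact congrFun h _
  | add x y hx hy => rw [map_add, map_add, map_add, map_add, hx, hy]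
  | smul r x hx => rw [map_smul, map_smul, map_smul, map_smul, hx]

theorem range_eq_bot_of_trace {V : Type*} [AddCommGroup V] [Module ℂ V] [FiniteDimensional ℂ V] {P : Module.End ℂ V}
    (hP : LinearMap.IsProj (LinearMap.range P) P) (h : LinearMap.trace ℂ V P = 0) : LinearMap.range P = ⊥ := by
  rw [hP.trace] at h
  exact Submodule.finrank_eq_zero.1 (by exact_mod_cast h)

/-- The two classes give different characters. -/
theorem character_ne (hm : 1 ≤ m) {δ : F} (hδ : ¬ IsSquare δ) {ε : ℂ} (hε : ε * ε = 1) :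
    (parRep ψ hψ h2 (n := m + 1) ε).character ≠
      (parRep (ψ.mulShift δ) (mulShift_primitive ψ hψ fun e => hδ (e ▸ IsSquare.zero)) h2 (n := m + 1) ε).character := by
  classical
  intro h
  have hδ0 : δ ≠ 0 := fun e => hδ (e ▸ IsSquare.zero)
  have h2' := two_ne h2
  have ht := trace_aA_eq _ _ h (fe ψ (-(2 : F)⁻¹))
  have hz : aA (parRep (ψ.mulShift δ) (mulShift_primitive ψ hψ hδ0) h2 (n := m + 1) ε) 0 (fe ψ (-(2 : F)⁻¹)) = 0 := by
    refine LinearMap.ext fun f => ?_
    set g := aA (parRep (ψ.mulShift δ) (mulShift_primitive ψ hψ hδ0) h2 (n := m + 1) ε) 0 (fe ψ (-(2 : F)⁻¹)) f with hg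
    have hgz := fe_mem ψ (parRep (ψ.mulShift δ) (mulShift_primitive ψ hψ hδ0) h2 (n := m + 1) ε) (-(2 : F)⁻¹) f
    rw [← hg] at hgz
    refine Subtype.ext (funext fun x => ?_)
    by_contra hne
    have hgz' : (g : (Fin (m + 1) → F) → ℂ) ∈ zeig (ψ.mulShift δ) (wR (ψ.mulShift δ) (mulShift_primitive ψ hψ hδ0) h2)
        (δ⁻¹ * -(2 : F)⁻¹) := by
      rw [zeig_mulShift, mul_inv_cancel_left₀ hδ0]
      exact fun t => congrArg Subtype.val (hgz t)
    have := zeig_supp (ψ.mulShift δ) (mulShift_primitive ψ hψ hδ0) h2 hm hgz' hne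
    refine hδ ⟨(x 0)⁻¹, ?_⟩
    have e : x 0 * x 0 = δ⁻¹ := mul_left_cancel₀ (neg_ne_zero.2 (inv_ne_zero h2')) (by rw [this, mul_comm])
    rw [← mul_inv, e, inv_inv]
  rw [hz, map_zero] at ht
  set ρ := parRep ψ hψ h2 (n := m + 1) ε
  set P := aA ρ 0 (fe ψ (-(2 : F)⁻¹)) with hP
  have hproj : LinearMap.IsProj (LinearMap.range P) P := ⟨fun x => ⟨x, rfl⟩, fun x hx => by
    obtain ⟨y, rfl⟩ := hx
    rw [hP, fe_of_mem ψ ρ hψ (fe_mem ψ ρ _ y), if_pos rfl]⟩
  have hbot : LinearMap.range P = ⊥ := range_eq_bot_of_trace hproj ht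
  set f0 : (Fin (m + 1) → F) → ℂ := Pi.single (Fin.cons 1 0) 1 + ε • Pi.single (Fin.cons (-1) 0) 1 with hf0
  have hne : (Fin.cons 1 (0 : Fin m → F) : Fin (m + 1) → F) ≠ Fin.cons (-1) 0 := fun e => by
    have := congrFun e 0
    simp at this
    exact h2' (by linear_combination this)
  have hf0p : f0 ∈ parSpace F (m + 1) ε := by
    refine mem_parSpace.2 (funext fun x => ?_)
    have e : ∀ c : F, (-x = Fin.cons c (0 : Fin m → F)) ↔ x = Fin.cons (-c) 0 := fun c => by
      rw [neg_eq_iff_eq_neg]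
      refine iff_of_eq (congrArg (x = ·) (funext fun i => ?_))
      refine Fin.cases ?_ (fun i => ?_) i <;> simp
    rw [parity_apply, Pi.smul_apply, smul_eq_mul, hf0, Pi.add_apply, Pi.add_apply, Pi.smul_apply, Pi.smul_apply,
      Pi.single_apply, Pi.single_apply, Pi.single_apply, Pi.single_apply, if_congr (e 1) rfl rfl,
      if_congr (e (-1)) rfl rfl, neg_neg, smul_eq_mul, smul_eq_mul]
    linear_combination -(if x = Fin.cons (-1) (0 : Fin m → F) then (1 : ℂ) else 0) * hε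
  have hf0z : (⟨f0, hf0p⟩ : ↥(parSpace F (m + 1) ε)) ∈ zeig ψ ρ (-(2 : F)⁻¹) := fun t => Subtype.ext (funext fun x => by
    show wR ψ hψ h2 (iSL 0 (lo t)) f0 x = ψ (t * -(2 : F)⁻¹) * f0 x
    rw [wR_lo ψ hψ h2 hm]
    by_cases hx : x 0 * x 0 = 1
    · rw [hx, mul_one]
    · have : f0 x = 0 := by
        rw [hf0, Pi.add_apply, Pi.smul_apply, Pi.single_eq_of_ne, Pi.single_eq_of_ne, smul_zero, add_zero]
        all_goals exact fun e => hx (by rw [e, Fin.cons_zero]; ring)
      rw [this, mul_zero, mul_zero])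
  have hmem : P ⟨f0, hf0p⟩ ∈ LinearMap.range P := ⟨_, rfl⟩
  rw [hbot, Submodule.mem_bot, hP, fe_of_mem ψ ρ hψ hf0z, if_pos rfl] at hmem
  have := congrFun (congrArg Subtype.val hmem) (Fin.cons 1 0)
  simp [hf0, hne] at this

include hψ h2 in
/-- The small irreducible representations. -/
theorem classify (hm : 1 ≤ m) (h3 : 3 ≤ Fintype.card F) {δ : F} (hδ : ¬ IsSquare δ) {V : Type*} [AddCommGroup V]
    [Module ℂ V] [FiniteDimensional ℂ V] (σ : Representation ℂ (Matrix.symplecticGroup (Fin (m + 1)) F) V)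
    [σ.IsIrreducible] :
    finrank ℂ V = 1 ∨
    (∃ ε : ℂ, (ε = 1 ∨ ε = -1) ∧ (σ.character = (parRep ψ hψ h2 (n := m + 1) ε).character ∨
      σ.character =
        (parRep (ψ.mulShift δ) (mulShift_primitive ψ hψ fun e => hδ (e ▸ IsSquare.zero)) h2 (n := m + 1) ε).character)) ∨
    (Fintype.card F ^ (m + 1) - 1) * (Fintype.card F ^ (m + 1) - Fintype.card F) ≤
      2 * (Fintype.card F + 1) * finrank ℂ V := by
  classical
  have hδ0 : δ ≠ 0 := fun e => hδ (e ▸ IsSquare.zero)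
  have h2' := two_ne h2
  by_cases hR : RankOne ψ σ
  swap
  · exact Or.inr (Or.inr (gap ψ σ hψ h2 h3 hR))
  by_cases hne : ∃ x, σ x ≠ 1
  swap
  · left
    push Not at hne
    obtain ⟨v, hv⟩ : ∃ v : V, v ≠ 0 := by
      by_contra h
      push Not at h
      have e : (⊥ : Subrepresentation σ) = ⊤ := Subrepresentation.toSubmodule_injective
        ((Submodule.eq_bot_iff _).2 fun x _ => h x).symm
      exact bot_ne_top e
    let S : Subrepresentation σ := ⟨Submodule.span ℂ {v}, fun g w hw => by rw [hne g]; exact hw⟩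
    rcases IsSimpleOrder.eq_bot_or_eq_top (α := Subrepresentation σ) S with h | h
    · exact absurd (Submodule.span_singleton_eq_bot.1 (congrArg Subrepresentation.toSubmodule h)) hv
    · have h' : Submodule.span ℂ {v} = ⊤ := congrArg Subrepresentation.toSubmodule h
      rw [← finrank_top ℂ V, ← h', finrank_span_singleton hv]
  right; left
  obtain ⟨B, hB, hB0, hBe⟩ := exists_ne_zero ψ σ hψ h2 (by omega) h3 hne
  obtain ⟨c, w, rfl⟩ := hR B hB hBe
  have hc : c ≠ 0 := fun e => hB0 (by rw [e, zero_smul])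
  have hw : w ≠ 0 := fun e => hB0 (by rw [e, vecMulVec_zero, smul_zero])
  obtain ⟨s, hs, hcs⟩ := square_class h2 hδ (show -(2 : F) * c ≠ 0 from mul_ne_zero (neg_ne_zero.2 h2') hc)
  have main : ∀ (χ : AddChar F ℂ) (hχ : χ.IsPrimitive), RankOne χ σ →
      eig χ σ ((-(2 : F)⁻¹) • vecMulVec (s • w) (s • w)) ≠ ⊥ →
      ∃ ε : ℂ, (ε = 1 ∨ ε = -1) ∧ σ.character = (parRep χ hχ h2 (n := m + 1) ε).character := by
    intro χ hχ hRχ he
    obtain ⟨v, hv, hv0⟩ := Submodule.exists_mem_ne_zero_of_ne_bot he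
    obtain ⟨g, hg, hgv⟩ := exists_gl_col (smul_ne_zero hs hw)
    have hu : IsUnit g.det := isUnit_iff_ne_zero.2 hg
    have hgi : g⁻¹.det ≠ 0 := by rw [det_nonsing_inv]; exact (IsUnit.ringInverse hu).ne_zero
    have h := levi_mem_eig χ σ hv g⁻¹ hgi
    rw [Matrix.mul_smul, Matrix.smul_mul, mul_vecMulVec, vecMulVec_mul, vecMul_transpose, ← hgv, mulVec_mulVec,
      Matrix.nonsing_inv_mul g hu, one_mulVec] at h
    refine character_eq χ hχ h2 hm h3 σ hRχ h fun e => hv0 ?_
    exact (Representation.apply_bijective σ _).1 (e.trans (map_zero _).symm)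
  have hvec : vecMulVec (s • w) (s • w) = (s * s) • vecMulVec w w := by
    rw [Matrix.smul_vecMulVec, Matrix.vecMulVec_smul, smul_smul]
  rcases hcs with hcs | hcs
  · obtain ⟨ε, hε, h⟩ := main ψ hψ hR (by
      rw [hvec, smul_smul, ← hcs, show -(2 : F)⁻¹ * (-2 * c) = c by field_simp]
      exact hBe)
    exact ⟨ε, hε, Or.inl h⟩
  · obtain ⟨ε, hε, h⟩ := main _ (mulShift_primitive ψ hψ hδ0) (rankOne_mulShift ψ hR hδ0) (by
      rw [eig_mulShift, hvec, smul_smul, smul_smul, show δ * -(2 : F)⁻¹ * (s * s) = c by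
        field_simp; linear_combination hcs]
      exact hBe)
    exact ⟨ε, hε, Or.inr h⟩

end CfsgLib.Char.SpWeil
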